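import Mathlib
import Cfsg.Prelude.Def_Classical
import Cfsg.Agent.LieClassical.SympCenter

/-!
# `Sp_{2m}(F) = PSp_{2m}(F)` in characteristic two (helper292)
-/

set_option autoImplicit false

namespace Cfsg.Agent.H292.SpCen

open Matrix Cfsg

variable {F : Type*} [Field F] [CharP F 2]

theorem center_eq_bot (m : ℕ) : Subgroup.center ↥(symplecticGroup (Fin m) F) = ⊥ := by
  rw [eq_bot_iff]
  intro A hA
  obtain ⟨a, ha⟩ := (LieClassical.SympCenter.mem_center_iff m A).1 hA
  rw [Subgroup.mem_bot]
  apply Subtype.ext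
  rcases Nat.eq_zero_or_pos m with rfl | hm
  · ext i
    rcases i with i | i <;> exact i.elim0
  · have h1 : a * a = 1 := LieClassical.SympCenter.sq_eq_one_of_smul_mem hm (by rw [← ha]; exact A.2)
    have h2 : a = 1 := by
      have h3 : (a - 1) * (a - 1) = 0 := by
        have h4 : (2 : F) = 0 := CharTwo.two_eq_zero
        linear_combination h1 + (1 - a) * h4
      exact sub_eq_zero.1 (mul_self_eq_zero.1 h3)
    rw [ha, h2, one_smul]
    rfl

/-- `Sp = PSp` in characteristic two. -/
noncomputable def spEquiv (m : ℕ) : ↥(symplecticGroup (Fin m) F) ≃* PSp m F :=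
  (QuotientGroup.quotientBot.symm).trans (QuotientGroup.quotientMulEquivOfEq (center_eq_bot m).symm)

end Cfsg.Agent.H292.SpCen
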