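import Mathlib
import Cfsg.Prelude.Def_Classical
import Cfsg.Agent.H292.SpCen
import Cfsg.Agent.ClassicalGeometry.SympBasic
import Cfsg.Agent.ClassicalGeometry.UnitAutBasic

/-!
# Elements of order eight in the classical groups of characteristic two (helper292)

* `Eight G` : `G` has an element `a` with `a ^ 8 = 1`, `a ^ 4 ≠ 1`;
* `oct_sp` : `Sp_{2k}(F)`, `k ≥ 3`; `oct_psp`; `oct_psu` : `PSU_m(F, q)`, `m ≥ 6`;
* `no_sp4` : a group with `Eight` does not embed in `PSp_4(F)`.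
-/

set_option autoImplicit false
set_option linter.unusedSectionVars false

namespace Cfsg.Agent.H292.Oct

open Matrix Cfsg

/-- There is an element of order eight. -/
def Eight (G : Type*) [Group G] : Prop := ∃ a : G, a ^ 8 = 1 ∧ a ^ 4 ≠ 1

theorem Eight.map {G H : Type*} [Group G] [Group H] (f : G →* H) (hf : Function.Injective f) (h : Eight G) : Eight H := by
  obtain ⟨a, h1, h2⟩ := h
  refine ⟨f a, by rw [← map_pow, h1, map_one], fun h3 => h2 (hf ?_)⟩
  rw [map_pow, h3, map_one]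

/-! ### symplectic groups -/

section Sp

variable {F : Type*} [Field F]

/-- the index equivalence -/
def sg (k l : ℕ) : (Fin k ⊕ Fin k) ⊕ (Fin l ⊕ Fin l) ≃ Fin (k + l) ⊕ Fin (k + l) :=
  (Equiv.sumSumSumComm _ _ _ _).trans (Equiv.sumCongr finSumFinEquiv finSumFinEquiv)

theorem J_sub (k l : ℕ) : (J (Fin (k + l)) F).submatrix (sg k l) (sg k l) =
    fromBlocks (J (Fin k) F) 0 0 (J (Fin l) F) := by
  ext a b
  rcases a with (a | a) | (a | a) <;> rcases b with (b | b) | (b | b) <;>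
    simp [sg, J, Matrix.one_apply, Fin.ext_iff] <;> omega

theorem J_sub' (k l : ℕ) : J (Fin (k + l)) F =
    (fromBlocks (J (Fin k) F) 0 0 (J (Fin l) F)).submatrix (sg k l).symm (sg k l).symm := by
  rw [← J_sub, submatrix_submatrix, Equiv.self_comp_symm, submatrix_id_id]

/-- `A ⊕ 1` -/
def ext1 (k l : ℕ) : symplecticGroup (Fin k) F →* symplecticGroup (Fin (k + l)) F where
  toFun A := ⟨(fromBlocks (A : Matrix (Fin k ⊕ Fin k) (Fin k ⊕ Fin k) F) 0 0 1).submatrix (sg k l).symm (sg k l).symm, by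
    rw [SymplecticGroup.mem_iff, transpose_submatrix, J_sub', submatrix_mul_equiv, submatrix_mul_equiv,
      fromBlocks_transpose, fromBlocks_multiply, fromBlocks_multiply]
    have h := SymplecticGroup.mem_iff.mp A.2
    simp [h]⟩
  map_one' := by
    apply Subtype.ext
    change (fromBlocks (1 : Matrix (Fin k ⊕ Fin k) (Fin k ⊕ Fin k) F) 0 0 1).submatrix _ _ = 1
    rw [fromBlocks_one, submatrix_one_equiv]
  map_mul' A B := by
    apply Subtype.ext
    change (fromBlocks ((A : Matrix (Fin k ⊕ Fin k) (Fin k ⊕ Fin k) F) * (B : Matrix (Fin k ⊕ Fin k) (Fin k ⊕ Fin k) F)) 0 0 1).submatrix _ _ =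
      (fromBlocks (A : Matrix (Fin k ⊕ Fin k) (Fin k ⊕ Fin k) F) 0 0 1).submatrix _ _ *
        (fromBlocks (B : Matrix (Fin k ⊕ Fin k) (Fin k ⊕ Fin k) F) 0 0 1).submatrix _ _
    rw [submatrix_mul_equiv, fromBlocks_multiply]
    simp

theorem ext1_injective (k l : ℕ) : Function.Injective (ext1 (F := F) k l) := by
  intro A B h
  have h1 := congrArg (fun X : symplecticGroup (Fin (k + l)) F =>
    (X : Matrix (Fin (k + l) ⊕ Fin (k + l)) (Fin (k + l) ⊕ Fin (k + l)) F).submatrix (sg k l) (sg k l)) h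
  change ((fromBlocks (A : Matrix (Fin k ⊕ Fin k) (Fin k ⊕ Fin k) F) 0 0 1).submatrix _ _).submatrix _ _ =
    ((fromBlocks (B : Matrix (Fin k ⊕ Fin k) (Fin k ⊕ Fin k) F) 0 0 1).submatrix _ _).submatrix _ _ at h1
  rw [submatrix_submatrix, submatrix_submatrix, Equiv.symm_comp_self, submatrix_id_id, submatrix_id_id,
    fromBlocks_inj] at h1
  exact Subtype.ext h1.1

/-- the matrix over the field of two elements -/
def S0 : Matrix (Fin 3 ⊕ Fin 3) (Fin 3 ⊕ Fin 3) (ZMod 2) :=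
  fromBlocks !![0, 0, 1; 0, 0, 0; 1, 0, 0] !![0, 0, 1; 0, 1, 0; 0, 1, 0] !![0, 0, 0; 0, 1, 0; 0, 0, 0]
    !![0, 0, 1; 1, 0, 0; 1, 0, 0]

theorem S0_mem : S0 ∈ symplecticGroup (Fin 3) (ZMod 2) := by
  rw [SymplecticGroup.mem_iff]
  decide +kernel

theorem S0_four : S0 * S0 * (S0 * S0) ≠ 1 := by decide +kernel

theorem S0_eight : S0 * S0 * (S0 * S0) * (S0 * S0 * (S0 * S0)) = 1 := by decide +kernel

theorem oct_sp0 : Eight (symplecticGroup (Fin 3) (ZMod 2)) := by
  refine ⟨⟨S0, S0_mem⟩, ?_, ?_⟩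
  · apply Subtype.ext
    have h : (⟨S0, S0_mem⟩ : symplecticGroup (Fin 3) (ZMod 2)) ^ 8 =
        ⟨S0, S0_mem⟩ * ⟨S0, S0_mem⟩ * (⟨S0, S0_mem⟩ * ⟨S0, S0_mem⟩) *
          (⟨S0, S0_mem⟩ * ⟨S0, S0_mem⟩ * (⟨S0, S0_mem⟩ * ⟨S0, S0_mem⟩)) := by
      simp only [pow_succ, pow_zero, one_mul, mul_assoc]
    rw [h]
    exact S0_eight
  · intro h1
    have h : (⟨S0, S0_mem⟩ : symplecticGroup (Fin 3) (ZMod 2)) ^ 4 =
        ⟨S0, S0_mem⟩ * ⟨S0, S0_mem⟩ * (⟨S0, S0_mem⟩ * ⟨S0, S0_mem⟩) := by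
      simp only [pow_succ, pow_zero, one_mul, mul_assoc]
    rw [h] at h1
    exact S0_four (congrArg Subtype.val h1)

theorem oct_sp [CharP F 2] {k : ℕ} (hk : 3 ≤ k) : Eight (symplecticGroup (Fin k) F) := by
  obtain ⟨l, rfl⟩ := Nat.exists_eq_add_of_le hk
  refine Eight.map (ext1 3 l) (ext1_injective 3 l) ?_
  let φ : ZMod 2 →+* F := ZMod.castHom (dvd_refl 2) F
  let f : symplecticGroup (Fin 3) (ZMod 2) →* symplecticGroup (Fin 3) F :=
    { toFun := fun A => ⟨(A : Matrix (Fin 3 ⊕ Fin 3) (Fin 3 ⊕ Fin 3) (ZMod 2)).map φ, SymplecticGroup.map_mem A.2 φ⟩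
      map_one' := Subtype.ext (by
        change (1 : Matrix (Fin 3 ⊕ Fin 3) (Fin 3 ⊕ Fin 3) (ZMod 2)).map φ = 1
        rw [Matrix.map_one _ (map_zero _) (map_one _)])
      map_mul' := fun A B => Subtype.ext (by
        change ((A : Matrix (Fin 3 ⊕ Fin 3) (Fin 3 ⊕ Fin 3) (ZMod 2)) *
          (B : Matrix (Fin 3 ⊕ Fin 3) (Fin 3 ⊕ Fin 3) (ZMod 2))).map φ = _
        rw [Matrix.map_mul]
        rfl) }
  refine Eight.map f ?_ oct_sp0
  intro A B h
  apply Subtype.ext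
  have h1 : (A : Matrix (Fin 3 ⊕ Fin 3) (Fin 3 ⊕ Fin 3) (ZMod 2)).map φ =
      (B : Matrix (Fin 3 ⊕ Fin 3) (Fin 3 ⊕ Fin 3) (ZMod 2)).map φ := congrArg Subtype.val h
  ext i j
  exact φ.injective (congrFun (congrFun h1 i) j)

theorem oct_psp [CharP F 2] {k : ℕ} (hk : 3 ≤ k) : Eight (PSp k F) :=
  Eight.map (SpCen.spEquiv k).toMonoidHom (SpCen.spEquiv k).injective (oct_sp hk)

/-- **A group with an element of order eight does not embed in `PSp_4(F)`.** -/
theorem no_sp4 [CharP F 2] {G : Type*} [Group G] (hG : Eight G) (f : G →* PSp 2 F) (hf : Function.Injective f) :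
    False := by
  have h := Eight.map (SpCen.spEquiv 2).symm.toMonoidHom (SpCen.spEquiv 2).symm.injective (Eight.map f hf hG)
  obtain ⟨A, h1, h2⟩ := h
  apply h2
  obtain ⟨M, hM⟩ : ∃ M : Matrix (Fin 2 ⊕ Fin 2) (Fin 2 ⊕ Fin 2) F, M = (A : Matrix _ _ F) := ⟨_, rfl⟩
  have hM8 : M ^ 8 = 1 := by
    rw [hM, ← SubmonoidClass.coe_pow, h1]
    rfl
  have : CharP (Matrix (Fin 2 ⊕ Fin 2) (Fin 2 ⊕ Fin 2) F) 2 := Matrix.charP 2
  have e8 : (M - 1) ^ 8 = 0 := by
    have h3 := sub_pow_char_pow_of_commute (x := M) (y := 1) (p := 2) (n := 3) (Commute.one_right M)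
    norm_num at h3
    rw [h3, hM8, sub_self]
  have e4 : (M - 1) ^ 4 = 0 := by
    have h4 := Matrix.isNilpotent_charpoly_sub_pow_of_isNilpotent (M := M - 1) ⟨8, e8⟩
    have h5 := h4.eq_zero
    have h6 := Matrix.aeval_self_charpoly (M - 1)
    rw [sub_eq_zero.1 h5] at h6
    simpa using h6
  have h5 : M ^ 4 = 1 := by
    have h3 := sub_pow_char_pow_of_commute (x := M) (y := 1) (p := 2) (n := 2) (Commute.one_right M)
    norm_num at h3
    rw [e4] at h3
    exact (sub_eq_zero.1 h3.symm)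
  apply Subtype.ext
  rw [SubmonoidClass.coe_pow, ← hM, h5]
  rfl

end Sp

/-! ### unitary groups -/

section Su

variable {F : Type*} [Field F]

/-- the orthogonal matrix over the field of two elements -/
def U0 : Matrix (Fin 6) (Fin 6) (ZMod 2) :=
  !![0, 1, 0, 0, 0, 0; 0, 0, 1, 0, 0, 0; 1, 0, 0, 1, 1, 0; 1, 0, 0, 0, 1, 1; 0, 0, 0, 1, 1, 1; 1, 0, 0, 1, 0, 1]

theorem U0_orth : U0.transpose * U0 = 1 := by decide +kernel

theorem U0_det : U0.det = 1 := by
  have h1 := congrArg Matrix.det U0_orth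
  rw [Matrix.det_mul, Matrix.det_transpose, Matrix.det_one] at h1
  have h2 : ∀ x : ZMod 2, x * x = 1 → x = 1 := by decide
  exact h2 _ h1

theorem U0_four : U0 * U0 * (U0 * U0) ≠ 1 := by decide +kernel

theorem U0_eight : U0 * U0 * (U0 * U0) * (U0 * U0 * (U0 * U0)) = 1 := by decide +kernel

/-- the extension by the identity, over `F` -/
def UU (l : ℕ) (φ : ZMod 2 →+* F) : Matrix (Fin (6 + l)) (Fin (6 + l)) F :=
  (fromBlocks (U0.map φ) 0 0 (1 : Matrix (Fin l) (Fin l) F)).submatrix finSumFinEquiv.symm finSumFinEquiv.symm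

theorem UU_det (l : ℕ) (φ : ZMod 2 →+* F) : (UU l φ).det = 1 := by
  rw [UU, Matrix.det_submatrix_equiv_self, Matrix.det_fromBlocks_zero₂₁, Matrix.det_one, mul_one]
  have h := RingHom.map_det φ U0
  rw [U0_det, map_one] at h
  exact h.symm

theorem UU_orth (l : ℕ) (φ : ZMod 2 →+* F) : (UU l φ).transpose * UU l φ = 1 := by
  rw [UU, transpose_submatrix, submatrix_mul_equiv, fromBlocks_transpose, fromBlocks_multiply]
  have h : (U0.map φ).transpose * U0.map φ = 1 := by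
    rw [← Matrix.transpose_map, ← Matrix.map_mul, U0_orth, Matrix.map_one _ (map_zero _) (map_one _)]
  simp [h]

theorem UU_sq (l : ℕ) (φ : ZMod 2 →+* F) : UU l φ * UU l φ =
    (fromBlocks ((U0 * U0).map φ) 0 0 (1 : Matrix (Fin l) (Fin l) F)).submatrix finSumFinEquiv.symm
      finSumFinEquiv.symm := by
  rw [UU, submatrix_mul_equiv, fromBlocks_multiply, Matrix.map_mul]
  simp

theorem UU_four (l : ℕ) (φ : ZMod 2 →+* F) : UU l φ * UU l φ * (UU l φ * UU l φ) =
    (fromBlocks ((U0 * U0 * (U0 * U0)).map φ) 0 0 (1 : Matrix (Fin l) (Fin l) F)).submatrix finSumFinEquiv.symm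
      finSumFinEquiv.symm := by
  rw [UU_sq, submatrix_mul_equiv, fromBlocks_multiply, Matrix.map_mul (M := U0 * U0)]
  simp

theorem UU_eight (l : ℕ) (φ : ZMod 2 →+* F) :
    UU l φ * UU l φ * (UU l φ * UU l φ) * (UU l φ * UU l φ * (UU l φ * UU l φ)) = 1 := by
  rw [UU_four, submatrix_mul_equiv, fromBlocks_multiply, ← Matrix.map_mul, U0_eight,
    Matrix.map_one _ (map_zero _) (map_one _)]
  simp

theorem UU_four_ne (l : ℕ) (φ : ZMod 2 →+* F) : UU l φ * UU l φ * (UU l φ * UU l φ) ≠ 1 := by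
  intro h
  rw [UU_four] at h
  have h1 := congrArg (fun X : Matrix (Fin (6 + l)) (Fin (6 + l)) F =>
    X.submatrix (finSumFinEquiv (m := 6) (n := l)) finSumFinEquiv) h
  simp only [submatrix_submatrix, Equiv.symm_comp_self, submatrix_id_id, submatrix_one_equiv] at h1
  rw [← fromBlocks_one, fromBlocks_inj] at h1
  apply U0_four
  ext i j
  have h2 := congrFun (congrFun h1.1 i) j
  rw [Matrix.map_apply] at h2
  apply φ.injective
  rw [h2, Matrix.one_apply, Matrix.one_apply]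
  split_ifs <;> simp

theorem UU_pow (l : ℕ) (φ : ZMod 2 →+* F) (q : ℕ) (hq : q ≠ 0) (i j : Fin (6 + l)) : UU l φ i j ^ q = UU l φ i j := by
  have h : ∃ c : ZMod 2, UU l φ i j = φ c := by
    rw [UU, submatrix_apply]
    rcases finSumFinEquiv.symm i with a | a <;> rcases finSumFinEquiv.symm j with b | b
    · exact ⟨U0 a b, rfl⟩
    · exact ⟨0, (map_zero φ).symm⟩
    · exact ⟨0, (map_zero φ).symm⟩
    · by_cases hab : a = b
      · exact ⟨1, by rw [map_one, hab, fromBlocks_apply₂₂, Matrix.one_apply_eq]⟩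
      · exact ⟨0, by rw [map_zero, fromBlocks_apply₂₂, Matrix.one_apply_ne hab]⟩
  obtain ⟨c, hc⟩ := h
  rw [hc, ← map_pow]
  congr 1
  have h2 : c = 0 ∨ c = 1 := by
    have h3 : ∀ c : ZMod 2, c = 0 ∨ c = 1 := by decide
    exact h3 c
  rcases h2 with rfl | rfl
  · exact zero_pow hq
  · exact one_pow q

theorem UU_mem [Fintype F] [CharP F 2] {q : ℕ} (hF : Fintype.card F = q ^ 2) (l : ℕ) (φ : ZMod 2 →+* F) :
    (⟨UU l φ, UU_det l φ⟩ : SpecialLinearGroup (Fin (6 + l)) F) ∈ SU (6 + l) F q := by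
  obtain ⟨j, hj⟩ : ∃ j, q = 2 ^ j := by
    have h1 : IsPrimePow (Fintype.card F) := Fintype.isPrimePow_card_of_field
    obtain ⟨n, -, hn⟩ := FiniteField.card F 2
    have h2 : q ∣ 2 ^ (n : ℕ) := by rw [← hn, hF]; exact dvd_pow_self q two_ne_zero
    obtain ⟨j, -, hj⟩ := (Nat.dvd_prime_pow Nat.prime_two).1 h2
    exact ⟨j, hj⟩
  intro u v
  change hermForm (6 + l) F q (UU l φ *ᵥ u) (UU l φ *ᵥ v) = hermForm (6 + l) F q u v
  have h1 : (fun i => (UU l φ *ᵥ v) i ^ q) = UU l φ *ᵥ fun i => v i ^ q := by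
    funext i
    rw [hj]
    change iterateFrobenius F 2 j ((UU l φ *ᵥ v) i) = _
    rw [Matrix.mulVec, dotProduct, map_sum, Matrix.mulVec, dotProduct]
    refine Finset.sum_congr rfl fun k _ => ?_
    rw [map_mul, iterateFrobenius_def, iterateFrobenius_def, UU_pow l φ _ (by positivity)]
  have h2 : ∀ a b : Fin (6 + l) → F, hermForm (6 + l) F q a b = a ⬝ᵥ fun i => b i ^ q := fun a b => rfl
  rw [h2, h2, h1, dotProduct_mulVec, ← Matrix.mulVec_transpose, Matrix.mulVec_mulVec, UU_orth, Matrix.one_mulVec]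

theorem eight_psu [Fintype F] [CharP F 2] {q m : ℕ} (hF : Fintype.card F = q ^ 2) (hm : 6 ≤ m) : Eight (PSU m F q) := by
  obtain ⟨l, rfl⟩ := Nat.exists_eq_add_of_le hm
  let φ : ZMod 2 →+* F := ZMod.castHom (dvd_refl 2) F
  let s : SU (6 + l) F q := ⟨⟨UU l φ, UU_det l φ⟩, UU_mem hF l φ⟩
  have hs : ∀ n : ℕ, (((s ^ n : SU (6 + l) F q) : SpecialLinearGroup (Fin (6 + l)) F) :
      Matrix (Fin (6 + l)) (Fin (6 + l)) F) = UU l φ ^ n := by
    intro n
    rw [SubmonoidClass.coe_pow]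
    exact Matrix.SpecialLinearGroup.coe_pow _ _
  have h4 : UU l φ ^ 4 = UU l φ * UU l φ * (UU l φ * UU l φ) := by simp only [pow_succ, pow_zero, one_mul, mul_assoc]
  have h8 : UU l φ ^ 8 = 1 := by
    rw [← UU_eight l φ]
    simp only [pow_succ, pow_zero, one_mul, mul_assoc]
  have e8 : s ^ 8 = 1 := by
    apply Subtype.ext
    apply Subtype.ext
    rw [hs, h8]
    rfl
  refine ⟨QuotientGroup.mk s, ?_, ?_⟩
  · rw [← QuotientGroup.mk_pow, e8, QuotientGroup.mk_one]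
  · intro h
    rw [← QuotientGroup.mk_pow, QuotientGroup.eq_one_iff] at h
    obtain ⟨c, -, hc⟩ := Cfsg.Agent.ClassicalGeometry.UnitAutBasic.exists_scalar_of_mem_center hF (by omega) h
    have hc' : ∀ x : Fin (6 + l) → F, UU l φ ^ 4 *ᵥ x = c • x := by
      intro x
      rw [← hs]
      exact hc x
    have h5 : UU l φ ^ 4 = c • (1 : Matrix (Fin (6 + l)) (Fin (6 + l)) F) := by
      rw [← Matrix.mulVec_injective.eq_iff]
      funext x
      rw [hc', Matrix.smul_mulVec, Matrix.one_mulVec]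
    have h6 : (c * c) • (1 : Matrix (Fin (6 + l)) (Fin (6 + l)) F) = 1 := by
      have h7 : UU l φ ^ 8 = UU l φ ^ 4 * UU l φ ^ 4 := by rw [← pow_add]
      rw [h8, h5, Matrix.smul_mul, Matrix.mul_smul, smul_smul, Matrix.one_mul] at h7
      exact h7.symm
    have h7 : c * c = 1 := by
      have := congrFun (congrFun h6 ⟨0, by omega⟩) ⟨0, by omega⟩
      simpa using this
    have h9 : c = 1 := by
      have h10 : (2 : F) = 0 := CharTwo.two_eq_zero
      have h11 : (c - 1) * (c - 1) = 0 := by linear_combination h7 + (1 - c) * h10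
      exact sub_eq_zero.1 (mul_self_eq_zero.1 h11)
    rw [h9, one_smul, h4] at h5
    exact UU_four_ne l φ h5

end Su

end Cfsg.Agent.H292.Oct
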