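import Mathlib
import Cfsg.Agent.H999.PslGraphTwo

/-!
# Isometry groups of symmetric bilinear forms over finite fields of characteristic two (helper292)

`B` an invertible symmetric matrix of size `n`.

* `iso_transfer` : isometric forms have isomorphic isometry groups;
* `dich` : either the isometry group `isoG B` has a central involution, or it is isomorphic to `Sp_{2m}(F)`, with
  `n = 2m` or `n = 2m + 1`.
-/

set_option autoImplicit false
set_option linter.unusedSectionVars false

namespace Cfsg.Agent.H292.SymTwo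

open Matrix
open Cfsg.Agent.H999.PslGraph Cfsg.Agent.H999.PslGraphTwo Cfsg.Agent.H999.PslGraphOdd Cfsg.Agent.H999.PslGraphClasses
open Cfsg (sympForm)

section Gen

variable {F : Type*} [Field F] {ι κ : Type} [Fintype ι] [DecidableEq ι] [Fintype κ] [DecidableEq κ]

theorem mem_isoG' {C : Matrix ι ι F} {P : GL ι F} :
    P ∈ isoG C ↔ ∀ u v, bil C ((P : Matrix ι ι F) *ᵥ u) ((P : Matrix ι ι F) *ᵥ v) = bil C u v := by
  rw [mem_isoG]
  constructor
  · intro h u v
    rw [bil_mulVec, h]
  · intro h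
    refine bil_ext fun u v => ?_
    rw [← bil_mulVec, h]

theorem iso_transfer (T : (ι → F) ≃ₗ[F] (κ → F)) {B : Matrix κ κ F} {C : Matrix ι ι F}
    (hf : ∀ u v, bil B (T u) (T v) = bil C u v) : Nonempty (↥(isoG C) ≃* ↥(isoG B)) := by
  have h1 : LinearMap.toMatrix' (T : (ι → F) →ₗ[F] (κ → F)) *
      LinearMap.toMatrix' (T.symm : (κ → F) →ₗ[F] (ι → F)) = 1 := by
    rw [← LinearMap.toMatrix'_comp]
    simp
  have h2 : LinearMap.toMatrix' (T.symm : (κ → F) →ₗ[F] (ι → F)) *
      LinearMap.toMatrix' (T : (ι → F) →ₗ[F] (κ → F)) = 1 := by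
    rw [← LinearMap.toMatrix'_comp]
    simp
  have h3 : ∀ (g : GL ι F) v, (rc _ _ h1 h2 g : Matrix κ κ F) *ᵥ (T v) = T ((g : Matrix ι ι F) *ᵥ v) := by
    intro g v
    have h4 := rc_mulVec _ _ h1 h2 g v
    simpa only [LinearMap.toMatrix'_mulVec, LinearEquiv.coe_coe] using h4
  have h5 : ∀ g, rc _ _ h1 h2 g ∈ isoG B ↔ g ∈ isoG C := by
    intro g
    rw [mem_isoG', mem_isoG']
    constructor
    · intro h u v
      have h6 := h (T u) (T v)
      rwa [h3, h3, hf, hf] at h6
    · intro h u v
      obtain ⟨u, rfl⟩ := T.surjective u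
      obtain ⟨v, rfl⟩ := T.surjective v
      rw [h3, h3, hf, hf, h]
  have hK : (isoG C).map ((rc _ _ h1 h2 : GL ι F ≃* GL κ F) : GL ι F →* GL κ F) = isoG B := by
    ext g
    constructor
    · rintro ⟨h, hh, rfl⟩
      exact (h5 h).2 hh
    · intro hg
      refine ⟨(rc _ _ h1 h2).symm g, (h5 _).1 ?_, ?_⟩
      · rw [MulEquiv.apply_symm_apply]; exact hg
      · exact (rc _ _ h1 h2).apply_symm_apply g
  exact ⟨((rc _ _ h1 h2).subgroupMap (isoG C)).trans (MulEquiv.subgroupCongr hK)⟩

end Gen

theorem eq_zero_of_dot {F : Type*} [Field F] {ι : Type*} [Fintype ι] [DecidableEq ι] {u : ι → F}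
    (h : ∀ w, u ⬝ᵥ w = 0) : u = 0 := by
  ext i
  have := h (Pi.single i 1)
  rwa [dotProduct_single, mul_one] at this

section Two

variable {F : Type*} [Field F] [CharP F 2] {ι : Type} [Fintype ι] [DecidableEq ι]

theorem fix_l {C : Matrix ι ι F} {l : ι → F} (hl : ∀ v, bil C v v = (l ⬝ᵥ v) ^ 2) {P : GL ι F} (hP : P ∈ isoG C)
    (v : ι → F) : l ⬝ᵥ ((P : Matrix ι ι F) *ᵥ v) = l ⬝ᵥ v := by
  apply eq_of_sq_eq
  rw [← hl, ← hl, mem_isoG'.1 hP]

theorem fix_a {C : Matrix ι ι F} (hnd : ∀ u, (∀ v, bil C u v = 0) → u = 0) {l a : ι → F}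
    (hl : ∀ v, bil C v v = (l ⬝ᵥ v) ^ 2) (ha : ∀ v, bil C a v = l ⬝ᵥ v) {P : GL ι F} (hP : P ∈ isoG C) :
    (P : Matrix ι ι F) *ᵥ a = a := by
  rw [← sub_eq_zero]
  apply hnd
  intro v
  obtain ⟨w, rfl⟩ : ∃ w, (P : Matrix ι ι F) *ᵥ w = v :=
    ⟨((P⁻¹ : GL ι F) : Matrix ι ι F) *ᵥ v, by
      rw [mulVec_mulVec, ← Units.val_mul, mul_inv_cancel, Units.val_one, one_mulVec]⟩
  have h1 := mem_isoG'.1 hP a w
  have h2 : ∀ u v w : ι → F, bil C (u - v) w = bil C u w - bil C v w := fun u v w => by
    rw [bil, bil, bil, sub_dotProduct]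
  rw [h2, h1, ha, ha, fix_l hl hP, sub_self]

/-- the block embedding -/
def blkM (κ : Type) [Fintype κ] [DecidableEq κ] : Matrix κ κ F →* Matrix (κ ⊕ Unit) (κ ⊕ Unit) F where
  toFun X := fromBlocks X 0 0 1
  map_one' := fromBlocks_one
  map_mul' X Y := by
    rw [fromBlocks_multiply]
    simp

def blk (κ : Type) [Fintype κ] [DecidableEq κ] : GL κ F →* GL (κ ⊕ Unit) F := Units.map (blkM κ)

theorem coe_blk {κ : Type} [Fintype κ] [DecidableEq κ] (X : GL κ F) :
    (blk κ X : Matrix (κ ⊕ Unit) (κ ⊕ Unit) F) = fromBlocks (X : Matrix κ κ F) 0 0 1 := rfl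

theorem blk_injective {κ : Type} [Fintype κ] [DecidableEq κ] : Function.Injective (blk (F := F) κ) := by
  intro X Y h
  have h1 := congrArg (fun Z : GL (κ ⊕ Unit) F => (Z : Matrix (κ ⊕ Unit) (κ ⊕ Unit) F)) h
  rw [coe_blk, coe_blk, fromBlocks_inj] at h1
  exact Units.ext h1.1

/-- the last coordinate vector -/
def lst (κ : Type) (F : Type*) [Field F] : κ ⊕ Unit → F := Sum.elim 0 1

/-- The isometries of `J ⊕ 1` are block diagonal. -/
theorem map_blk {κ : Type} [Fintype κ] [DecidableEq κ] {C : Matrix κ κ F} (hC : ∀ v, bil C v v = 0)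
    (hnd : ∀ u, (∀ v, bil C u v = 0) → u = 0) :
    (isoG C).map (blk κ) = isoG (fromBlocks C 0 0 1) := by
  have hb : ∀ u v : κ ⊕ Unit → F, bil (fromBlocks C 0 0 1) u v =
      bil C (u ∘ Sum.inl) (v ∘ Sum.inl) + u (Sum.inr ()) * v (Sum.inr ()) := by
    intro u v
    rw [bil, fromBlocks_mulVec]
    simp only [dotProduct, Fintype.sum_sum_type, Sum.elim_inl, Sum.elim_inr, zero_mulVec, add_zero, zero_add,
      one_mulVec, Finset.univ_unique, Finset.sum_singleton, Function.comp_apply]
    rfl
  have hl0 : ∀ v : κ ⊕ Unit → F, lst κ F ⬝ᵥ v = v (Sum.inr ()) := by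
    intro v
    simp [lst, dotProduct, Fintype.sum_sum_type]
  apply le_antisymm
  · rintro _ ⟨P, hP, rfl⟩
    rw [mem_isoG, coe_blk, fromBlocks_transpose, fromBlocks_multiply, fromBlocks_multiply]
    simp only [transpose_zero, transpose_one, Matrix.mul_zero, Matrix.zero_mul, add_zero, zero_add, Matrix.mul_one]
    rw [mem_isoG.1 hP]
  · have key : ∀ P ∈ isoG (fromBlocks C 0 0 (1 : Matrix Unit Unit F)),
        (P : Matrix (κ ⊕ Unit) (κ ⊕ Unit) F) = fromBlocks (P : Matrix (κ ⊕ Unit) (κ ⊕ Unit) F).toBlocks₁₁ 0 0 1 := by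
      intro P hP
      have hl : ∀ v, bil (fromBlocks C 0 0 (1 : Matrix Unit Unit F)) v v = (lst κ F ⬝ᵥ v) ^ 2 := by
        intro v
        rw [hb, hC, hl0, zero_add, pow_two]
      have ha : ∀ v, bil (fromBlocks C 0 0 (1 : Matrix Unit Unit F)) (lst κ F) v = lst κ F ⬝ᵥ v := by
        intro v
        rw [hb, hl0]
        have h1 : lst κ F ∘ Sum.inl = 0 := rfl
        rw [h1, bil, zero_dotProduct, zero_add]
        change 1 * v (Sum.inr ()) = _
        rw [one_mul]
      have hnd' : ∀ u, (∀ v, bil (fromBlocks C 0 0 (1 : Matrix Unit Unit F)) u v = 0) → u = 0 := by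
        intro u hu
        have h1 : u ∘ Sum.inl = 0 := by
          apply hnd
          intro v
          have h2 := hu (Sum.elim v 0)
          rw [hb] at h2
          simpa using h2
        have h3 : u (Sum.inr ()) = 0 := by
          have h2 := hu (lst κ F)
          rw [hb, h1] at h2
          simpa [bil, lst] using h2
        ext i
        rcases i with i | ⟨⟩
        · exact congrFun h1 i
        · exact h3
      have h1 := fix_a hnd' hl ha hP
      have h2 := fix_l hl hP
      ext i j
      rcases i with i | ⟨⟩ <;> rcases j with j | ⟨⟩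
      · rfl
      · have h3 := congrFun h1 (Sum.inl i)
        have h4 : ((P : Matrix (κ ⊕ Unit) (κ ⊕ Unit) F) *ᵥ lst κ F) (Sum.inl i) =
            (P : Matrix (κ ⊕ Unit) (κ ⊕ Unit) F) (Sum.inl i) (Sum.inr ()) := by
          simp [mulVec, dotProduct, Fintype.sum_sum_type, lst]
        rw [h4] at h3
        exact h3
      · have h3 := h2 (Pi.single (Sum.inl j) 1)
        rw [hl0, hl0, mulVec_single_one, col_apply] at h3
        rw [h3]
        simp
      · have h3 := congrFun h1 (Sum.inr ())
        have h4 : ((P : Matrix (κ ⊕ Unit) (κ ⊕ Unit) F) *ᵥ lst κ F) (Sum.inr ()) =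
            (P : Matrix (κ ⊕ Unit) (κ ⊕ Unit) F) (Sum.inr ()) (Sum.inr ()) := by
          simp [mulVec, dotProduct, Fintype.sum_sum_type, lst]
        rw [h4] at h3
        rw [h3]
        simp [lst]
    intro P hP
    have h1 := key P hP
    have h2 := key P⁻¹ (Subgroup.inv_mem _ hP)
    set X := (P : Matrix (κ ⊕ Unit) (κ ⊕ Unit) F).toBlocks₁₁ with hX
    set Y := ((P⁻¹ : GL (κ ⊕ Unit) F) : Matrix (κ ⊕ Unit) (κ ⊕ Unit) F).toBlocks₁₁ with hY
    have h3 : X * Y = 1 := by
      have h4 : (P : Matrix (κ ⊕ Unit) (κ ⊕ Unit) F) * ((P⁻¹ : GL (κ ⊕ Unit) F) : Matrix (κ ⊕ Unit) (κ ⊕ Unit) F)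
          = 1 := by rw [← Units.val_mul, mul_inv_cancel, Units.val_one]
      rw [h1, h2, fromBlocks_multiply, ← fromBlocks_one, fromBlocks_inj] at h4
      simpa using h4.1
    have h3' : Y * X = 1 := by
      have h4 : ((P⁻¹ : GL (κ ⊕ Unit) F) : Matrix (κ ⊕ Unit) (κ ⊕ Unit) F) * (P : Matrix (κ ⊕ Unit) (κ ⊕ Unit) F)
          = 1 := by rw [← Units.val_mul, inv_mul_cancel, Units.val_one]
      rw [h1, h2, fromBlocks_multiply, ← fromBlocks_one, fromBlocks_inj] at h4
      simpa using h4.1
    refine ⟨⟨X, Y, h3, h3'⟩, ?_, ?_⟩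
    · have h5 := mem_isoG.1 hP
      rw [h1, fromBlocks_transpose, fromBlocks_multiply, fromBlocks_multiply, fromBlocks_inj] at h5
      have h6 := h5.1
      simp only [transpose_zero, Matrix.mul_zero, Matrix.zero_mul, add_zero] at h6
      exact h6
    · apply Units.ext
      rw [coe_blk, h1]

/-- **The isometry group of a symmetric bilinear form.** -/
theorem dich [Finite F] {n : ℕ} (B : GL (Fin n) F) (hB : (B : Matrix (Fin n) (Fin n) F)ᵀ = B) :
    (∃ z ∈ isoG (B : Matrix (Fin n) (Fin n) F), z ≠ 1 ∧ z * z = 1 ∧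
      ∀ y ∈ isoG (B : Matrix (Fin n) (Fin n) F), y * z = z * y) ∨
    ∃ m : ℕ, (n = 2 * m ∨ n = 2 * m + 1) ∧
      Nonempty (↥(isoG (B : Matrix (Fin n) (Fin n) F)) ≃* ↥(symplecticGroup (Fin m) F)) := by
  have h2 : (2 : F) = 0 := CharTwo.two_eq_zero
  obtain ⟨l, hl⟩ := exists_diag_functional hB
  have hnd : ∀ u, (∀ v, bil (B : Matrix (Fin n) (Fin n) F) u v = 0) → u = 0 := by
    intro u hu
    apply eq_zero_of_dot
    intro v
    have h1 := hu (((B⁻¹ : GL (Fin n) F) : Matrix (Fin n) (Fin n) F) *ᵥ v)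
    rwa [bil, mulVec_mulVec, ← Units.val_mul, mul_inv_cancel, Units.val_one, one_mulVec] at h1
  obtain ⟨a, hBa⟩ : ∃ a, (B : Matrix (Fin n) (Fin n) F) *ᵥ a = l :=
    ⟨((B⁻¹ : GL (Fin n) F) : Matrix (Fin n) (Fin n) F) *ᵥ l, by
      rw [mulVec_mulVec, ← Units.val_mul, mul_inv_cancel, Units.val_one, one_mulVec]⟩
  have hsymm : ∀ u v, bil (B : Matrix (Fin n) (Fin n) F) u v = bil (B : Matrix (Fin n) (Fin n) F) v u := by
    intro u v
    rw [bil, bil, dotProduct_mulVec, ← mulVec_transpose, hB, dotProduct_comm]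
  have ha' : ∀ v, bil (B : Matrix (Fin n) (Fin n) F) v a = l ⬝ᵥ v := by
    intro v
    rw [bil, hBa, dotProduct_comm]
  have ha : ∀ v, bil (B : Matrix (Fin n) (Fin n) F) a v = l ⬝ᵥ v := fun v => by rw [hsymm, ha']
  have hla : l ⬝ᵥ a = 0 ∨ l ⬝ᵥ a = 1 := by
    have h1 : (l ⬝ᵥ a) * (l ⬝ᵥ a - 1) = 0 := by
      have h3 := hl a
      rw [ha] at h3
      linear_combination -h3
    rcases mul_eq_zero.1 h1 with h3 | h3
    · exact Or.inl h3
    · exact Or.inr (sub_eq_zero.1 h3)
  -- the alternating form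
  have hA : (Matrix.toBilin' ((B : Matrix (Fin n) (Fin n) F) + vecMulVec l l)).IsAlt := by
    intro v
    rw [← bil_eq_toBilin, bil_add, hl, bil_vecMulVec]
    linear_combination (l ⬝ᵥ v) ^ 2 * h2
  obtain ⟨m, k, b, h1, h2', h3, h4⟩ := Cfsg.Agent.S0752.result _ hA
  simp only [← bil_eq_toBilin] at h1 h2' h3 h4
  have hcard : 2 * m + k = n := by
    have := Module.finrank_eq_card_basis b
    simp at this
    omega
  have hrad : ∀ x : Fin n → F, (∀ v, bil ((B : Matrix (Fin n) (Fin n) F) + vecMulVec l l) x v = 0) →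
      x = (l ⬝ᵥ x) • a := by
    intro x hx
    rw [← sub_eq_zero]
    apply hnd
    intro v
    have h6 := hx v
    rw [bil_add, bil_vecMulVec] at h6
    have h7 : bil (B : Matrix (Fin n) (Fin n) F) (x - (l ⬝ᵥ x) • a) v =
        bil (B : Matrix (Fin n) (Fin n) F) x v - (l ⬝ᵥ x) * bil (B : Matrix (Fin n) (Fin n) F) a v := by
      rw [bil, bil, bil, sub_dotProduct, smul_dotProduct, smul_eq_mul]
    rw [h7, ha]
    linear_combination h6 - (l ⬝ᵥ x) * (l ⬝ᵥ v) * h2
  have hk1 : k ≤ 1 := by
    by_contra hk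
    have hx := hrad _ (h4 ⟨0, by omega⟩)
    have hy := hrad _ (h4 ⟨1, by omega⟩)
    set x := b (Sum.inr ⟨0, by omega⟩) with hxdef
    set y := b (Sum.inr ⟨1, by omega⟩) with hydef
    have h7 : (l ⬝ᵥ y) • x = (l ⬝ᵥ x) • y := by
      rw [hx, hy]
      simp only [smul_smul, dotProduct_smul, smul_eq_mul]
      congr 1
      ring
    have h8 : (l ⬝ᵥ y) = 0 := by
      have h9 := congrArg (fun z => b.repr z (Sum.inr ⟨0, by omega⟩)) h7
      simpa [hxdef, hydef] using h9
    have h10 : y = 0 := by rw [hy, h8, zero_smul]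
    exact b.ne_zero _ h10
  rcases Nat.lt_or_ge 0 k with hk0 | hk0
  · -- `k = 1`
    obtain rfl : k = 1 := by omega
    right
    refine ⟨m, Or.inr hcard.symm, ?_⟩
    set r := b (Sum.inr 0) with hr
    have hr1 := hrad r (h4 0)
    have hlr : l ⬝ᵥ r ≠ 0 := by
      intro h
      rw [h, zero_smul] at hr1
      exact b.ne_zero _ hr1
    have ha0 : ∀ v, bil ((B : Matrix (Fin n) (Fin n) F) + vecMulVec l l) a v = 0 := by
      intro v
      have h5 := h4 0 v
      rw [← hr, hr1] at h5
      have h6 : bil ((B : Matrix (Fin n) (Fin n) F) + vecMulVec l l) ((l ⬝ᵥ r) • a) v =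
          (l ⬝ᵥ r) * bil ((B : Matrix (Fin n) (Fin n) F) + vecMulVec l l) a v := by
        rw [bil, bil, smul_dotProduct, smul_eq_mul]
      rw [h6] at h5
      exact (mul_eq_zero.1 h5).resolve_left hlr
    have hla1 : l ⬝ᵥ a = 1 := by
      rcases hla with h | h
      · exfalso
        have h5 := ha0 r
        rw [bil_add, ha, bil_vecMulVec, h, zero_mul, add_zero] at h5
        exact hlr h5
      · exact h
    -- coordinates
    have hsymA : ∀ u v, bil ((B : Matrix (Fin n) (Fin n) F) + vecMulVec l l) u v =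
        bil ((B : Matrix (Fin n) (Fin n) F) + vecMulVec l l) v u := by
      intro u v
      rw [bil_add, bil_add, hsymm, bil_vecMulVec, bil_vecMulVec, mul_comm (l ⬝ᵥ u)]
    let b' : (Fin m ⊕ Fin m) → (Fin n → F) := fun i => b (Sum.inl (Sum.swap i)) + (l ⬝ᵥ b (Sum.inl (Sum.swap i))) • a
    have hb'l : ∀ i, l ⬝ᵥ b' i = 0 := by
      intro i
      change l ⬝ᵥ (b (Sum.inl (Sum.swap i)) + (l ⬝ᵥ b (Sum.inl (Sum.swap i))) • a) = 0
      rw [dotProduct_add, dotProduct_smul, hla1, smul_eq_mul]
      linear_combination (l ⬝ᵥ b (Sum.inl (Sum.swap i))) * h2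
    have hb'b : ∀ i j, bil (B : Matrix (Fin n) (Fin n) F) (b' i) (b' j) =
        bil ((B : Matrix (Fin n) (Fin n) F) + vecMulVec l l) (b (Sum.inl (Sum.swap i))) (b (Sum.inl (Sum.swap j))) := by
      intro i j
      have h5 : bil (B : Matrix (Fin n) (Fin n) F) (b' i) (b' j) =
          bil ((B : Matrix (Fin n) (Fin n) F) + vecMulVec l l) (b' i) (b' j) := by
        rw [bil_add, bil_vecMulVec, hb'l, zero_mul, add_zero]
      rw [h5]
      have hadd : ∀ (M : Matrix (Fin n) (Fin n) F) (u v w z : Fin n → F) (c d : F), bil M (u + c • v) (w + d • z) =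
          bil M u w + d * bil M u z + c * bil M v w + c * d * bil M v z := by
        intro M u v w z c d
        simp only [bil, mulVec_add, mulVec_smul, add_dotProduct, smul_dotProduct, dotProduct_add, dotProduct_smul,
          smul_eq_mul]
        ring
      change bil _ (b (Sum.inl (Sum.swap i)) + (l ⬝ᵥ b (Sum.inl (Sum.swap i))) • a)
        (b (Sum.inl (Sum.swap j)) + (l ⬝ᵥ b (Sum.inl (Sum.swap j))) • a) = _
      rw [hadd, hsymA _ a, ha0, ha0, ha0]
      ring
    let T₀ : ((Fin m ⊕ Fin m) ⊕ Unit → F) →ₗ[F] (Fin n → F) :=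
      { toFun := fun x => (∑ i, x (Sum.inl i) • b' i) + x (Sum.inr ()) • a
        map_add' := fun x y => by
          simp only [Pi.add_apply, add_smul, Finset.sum_add_distrib]
          abel
        map_smul' := fun c x => by
          simp only [Pi.smul_apply, smul_eq_mul, mul_smul, RingHom.id_apply, smul_add, Finset.smul_sum] }
    have hT₀ : ∀ x, T₀ x = (∑ i, x (Sum.inl i) • b' i) + x (Sum.inr ()) • a := fun x => rfl
    have hform : ∀ x y, bil (B : Matrix (Fin n) (Fin n) F) (T₀ x) (T₀ y) =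
        bil (fromBlocks (J (Fin m) F) 0 0 (1 : Matrix Unit Unit F)) x y := by
      intro x y
      have hJ : ∀ i j, bil ((B : Matrix (Fin n) (Fin n) F) + vecMulVec l l) (b (Sum.inl (Sum.swap i)))
          (b (Sum.inl (Sum.swap j))) = J (Fin m) F i j := by
        rintro (i | i) (j | j)
        · change bil _ (b (Sum.inl (Sum.inr i))) (b (Sum.inl (Sum.inr j))) = _
          rw [h3]
          simp [J]
        · change bil _ (b (Sum.inl (Sum.inr i))) (b (Sum.inl (Sum.inl j))) = _
          rw [hsymA, h1]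
          simp only [J, fromBlocks_apply₁₂, Matrix.neg_apply, Matrix.one_apply, CharTwo.neg_eq]
          by_cases h5 : i = j
          · rw [if_pos h5, if_pos h5.symm]
          · rw [if_neg h5, if_neg (Ne.symm h5)]
        · change bil _ (b (Sum.inl (Sum.inl i))) (b (Sum.inl (Sum.inr j))) = _
          rw [h1]
          simp [J, Matrix.one_apply]
        · change bil _ (b (Sum.inl (Sum.inl i))) (b (Sum.inl (Sum.inl j))) = _
          rw [h2']
          simp [J]
      have hb1 : ∀ (c : F) (w z : Fin n → F), bil (B : Matrix (Fin n) (Fin n) F) (w + c • a) z =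
          bil (B : Matrix (Fin n) (Fin n) F) w z + c * bil (B : Matrix (Fin n) (Fin n) F) a z := by
        intro c w z
        rw [bil, bil, bil, add_dotProduct, smul_dotProduct, smul_eq_mul]
      have hl1 : ∀ z, l ⬝ᵥ T₀ z = z (Sum.inr ()) := by
        intro z
        rw [hT₀, dotProduct_add, dotProduct_smul, hla1, smul_eq_mul, mul_one, dotProduct_sum]
        simp only [dotProduct_smul, hb'l, smul_zero, Finset.sum_const_zero, zero_add]
      have hs : ∀ z : (Fin m ⊕ Fin m) ⊕ Unit → F, l ⬝ᵥ (∑ i, z (Sum.inl i) • b' i) = (0 : F) := by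
        intro z
        rw [dotProduct_sum]
        simp only [dotProduct_smul, hb'l, smul_zero, Finset.sum_const_zero]
      rw [hT₀ x, hb1, ha, hl1, hT₀ y]
      have hb2 : bil (B : Matrix (Fin n) (Fin n) F) (∑ i, x (Sum.inl i) • b' i)
          ((∑ i, y (Sum.inl i) • b' i) + y (Sum.inr ()) • a) =
          bil (B : Matrix (Fin n) (Fin n) F) (∑ i, x (Sum.inl i) • b' i) (∑ i, y (Sum.inl i) • b' i) := by
        rw [hsymm, hb1, ha, hs, mul_zero, add_zero, hsymm]
      rw [hb2]
      have hb3 : bil (B : Matrix (Fin n) (Fin n) F) (∑ i, x (Sum.inl i) • b' i) (∑ i, y (Sum.inl i) • b' i) =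
          bil (J (Fin m) F) (x ∘ Sum.inl) (y ∘ Sum.inl) := by
        have h8 : bil (J (Fin m) F) (x ∘ Sum.inl) (y ∘ Sum.inl) =
            ∑ i, ∑ j, x (Sum.inl i) * (J (Fin m) F i j * y (Sum.inl j)) := by
          rw [bil, dotProduct]
          refine Finset.sum_congr rfl fun i _ => ?_
          rw [mulVec, dotProduct, Finset.mul_sum]
          rfl
        rw [h8]
        have h9 : bil (B : Matrix (Fin n) (Fin n) F) (∑ i, x (Sum.inl i) • b' i) (∑ i, y (Sum.inl i) • b' i) =
            ∑ i, ∑ j, x (Sum.inl i) * (bil (B : Matrix (Fin n) (Fin n) F) (b' i) (b' j) * y (Sum.inl j)) := by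
          rw [bil, mulVec_sum, sum_dotProduct]
          refine Finset.sum_congr rfl fun i _ => ?_
          rw [dotProduct_sum]
          refine Finset.sum_congr rfl fun j _ => ?_
          rw [mulVec_smul, smul_dotProduct, dotProduct_smul, smul_eq_mul, smul_eq_mul, bil, mul_comm (y (Sum.inl j))]
        rw [h9]
        refine Finset.sum_congr rfl fun i _ => Finset.sum_congr rfl fun j _ => ?_
        rw [hb'b, hJ]
      rw [hb3, bil, bil, fromBlocks_mulVec]
      simp only [dotProduct, Fintype.sum_sum_type, Sum.elim_inl, Sum.elim_inr, zero_mulVec, add_zero, zero_add,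
        one_mulVec, Finset.univ_unique, Finset.sum_singleton, Function.comp_apply]
    have hCnd : ∀ u, (∀ v, bil (J (Fin m) F) u v = 0) → u = 0 := by
      intro u hu
      apply eq_zero_of_dot
      intro v
      have h5 := hu (J (Fin m) F *ᵥ v)
      rwa [bil, mulVec_mulVec, J_mul_J, one_mulVec] at h5
    have hinj : Function.Injective T₀ := by
      rw [injective_iff_map_eq_zero]
      intro x hx
      have h5 : ∀ y, bil (fromBlocks (J (Fin m) F) 0 0 (1 : Matrix Unit Unit F)) x y = 0 := by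
        intro y
        rw [← hform, hx, bil, zero_dotProduct]
      have h6 : ∀ u v : (Fin m ⊕ Fin m) ⊕ Unit → F, bil (fromBlocks (J (Fin m) F) 0 0 (1 : Matrix Unit Unit F)) u v =
          bil (J (Fin m) F) (u ∘ Sum.inl) (v ∘ Sum.inl) + u (Sum.inr ()) * v (Sum.inr ()) := by
        intro u v
        rw [bil, fromBlocks_mulVec]
        simp only [dotProduct, Fintype.sum_sum_type, Sum.elim_inl, Sum.elim_inr, zero_mulVec, add_zero, zero_add,
          one_mulVec, Finset.univ_unique, Finset.sum_singleton, Function.comp_apply]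
        simp only [bil, dotProduct, Fintype.sum_sum_type, Function.comp_apply]
      have h7 : x ∘ Sum.inl = 0 := by
        apply hCnd
        intro v
        have h8 := h5 (Sum.elim v 0)
        rw [h6] at h8
        simpa using h8
      have h9 : x (Sum.inr ()) = 0 := by
        have h8 := h5 (lst _ F)
        rw [h6, h7] at h8
        simpa [bil, lst] using h8
      ext i
      rcases i with i | ⟨⟩
      · exact congrFun h7 i
      · exact h9
    have hfr : Module.finrank F ((Fin m ⊕ Fin m) ⊕ Unit → F) = Module.finrank F (Fin n → F) := by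
      rw [Module.finrank_fintype_fun_eq_card, Module.finrank_fintype_fun_eq_card]
      simp
      omega
    let T : ((Fin m ⊕ Fin m) ⊕ Unit → F) ≃ₗ[F] (Fin n → F) :=
      LinearEquiv.ofBijective T₀ ⟨hinj, (LinearMap.injective_iff_surjective_of_finrank_eq_finrank hfr).1 hinj⟩
    obtain ⟨e1⟩ := iso_transfer T (B := (B : Matrix (Fin n) (Fin n) F))
      (C := fromBlocks (J (Fin m) F) 0 0 (1 : Matrix Unit Unit F)) hform
    have e2 := (isoG (J (Fin m) F)).equivMapOfInjective (blk (F := F) (Fin m ⊕ Fin m)) blk_injective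
    have e3 := MulEquiv.subgroupCongr (map_blk (C := J (Fin m) F) dot_J_self hCnd)
    exact ⟨(e1.symm.trans (e3.symm.trans e2.symm)).trans isoJ⟩
  · -- `k = 0`
    obtain rfl : k = 0 := by omega
    by_cases hl0 : l = 0
    · right
      refine ⟨m, Or.inl (by omega), ?_⟩
      obtain ⟨e, he⟩ := exists_symp_two (m := m) (by omega) B l hl
      obtain ⟨e1⟩ := iso_transfer e (B := (B : Matrix (Fin n) (Fin n) F)) (C := J (Fin m) F) (by
        intro u v
        have h5 := he u v
        rw [bil_add, bil_vecMulVec, hl0, zero_dotProduct, zero_mul, add_zero] at h5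
        rw [h5]
        rfl)
      exact ⟨e1.symm.trans isoJ⟩
    · left
      have hla0 : l ⬝ᵥ a = 0 := by
        rcases hla with h | h
        · exact h
        · exfalso
          have h5 : ∀ v, bil ((B : Matrix (Fin n) (Fin n) F) + vecMulVec l l) a v = 0 := by
            intro v
            rw [bil_add, ha, bil_vecMulVec, h]
            linear_combination (l ⬝ᵥ v) * h2
          obtain ⟨e, he⟩ := exists_symp_two (m := m) (by omega) B l hl
          have h6 : a = 0 := by
            obtain ⟨x, hx⟩ := e.surjective a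
            have h7 : x = 0 := by
              apply eq_zero_of_dot
              intro v
              have h8 := he x (J (Fin m) F *ᵥ v)
              rw [hx, h5] at h8
              have h9 : sympForm m F x (J (Fin m) F *ᵥ v) = x ⬝ᵥ v := by
                change x ⬝ᵥ (J (Fin m) F *ᵥ (J (Fin m) F *ᵥ v)) = _
                rw [mulVec_mulVec, J_mul_J, one_mulVec]
              rw [← h9, ← h8]
            rw [← hx, h7, map_zero]
          rw [h6, dotProduct_zero] at h
          exact zero_ne_one h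
      have ha0 : a ≠ 0 := by
        rintro rfl
        apply hl0
        rw [← hBa, mulVec_zero]
      have hN : vecMulVec a l * vecMulVec a l = 0 := by
        rw [vecMulVec_mul_vecMulVec, hla0]
        simp
      have hz2 : (1 + vecMulVec a l) * (1 + vecMulVec a l) = (1 : Matrix (Fin n) (Fin n) F) := by
        rw [Matrix.mul_add, Matrix.mul_one, Matrix.add_mul, Matrix.one_mul, hN, add_zero]
        ext i j
        simp only [Matrix.add_apply]
        linear_combination (vecMulVec a l i j) * h2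
      let z : GL (Fin n) F := ⟨1 + vecMulVec a l, 1 + vecMulVec a l, hz2, hz2⟩
      have hz : ∀ v, (z : Matrix (Fin n) (Fin n) F) *ᵥ v = v + (l ⬝ᵥ v) • a := by
        intro v
        change (1 + vecMulVec a l) *ᵥ v = _
        rw [add_mulVec, one_mulVec, vecMulVec_mulVec, op_smul_eq_smul]
      refine ⟨z, ?_, ?_, ?_, ?_⟩
      · rw [mem_isoG']
        intro u v
        rw [hz, hz]
        have hadd : ∀ (M : Matrix (Fin n) (Fin n) F) (u v w z : Fin n → F) (c d : F), bil M (u + c • v) (w + d • z) =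
            bil M u w + d * bil M u z + c * bil M v w + c * d * bil M v z := by
          intro M u v w z c d
          simp only [bil, mulVec_add, mulVec_smul, add_dotProduct, smul_dotProduct, dotProduct_add, dotProduct_smul,
            smul_eq_mul]
          ring
        rw [hadd, ha', ha, ha', hla0]
        linear_combination (l ⬝ᵥ u) * (l ⬝ᵥ v) * h2
      · intro h
        have h5 : (z : Matrix (Fin n) (Fin n) F) = 1 := by rw [h, Units.val_one]
        have h6 : vecMulVec a l = 0 := by
          have h7 : (1 : Matrix (Fin n) (Fin n) F) + vecMulVec a l = 1 := h5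
          simpa using h7
        exact vecMulVec_ne_zero' ha0 hl0 h6
      · exact Units.ext hz2
      · intro y hy
        apply Units.ext
        change (y : Matrix (Fin n) (Fin n) F) * (1 + vecMulVec a l) = (1 + vecMulVec a l) * (y : Matrix (Fin n) (Fin n) F)
        rw [Matrix.mul_add, Matrix.add_mul, Matrix.mul_one, Matrix.one_mul, mul_vecMulVec, vecMulVec_mul,
          fix_a hnd hl ha hy]
        congr 2
        ext j
        have h5 := fix_l hl hy (Pi.single j 1)
        rw [dotProduct_mulVec, dotProduct_single, dotProduct_single, mul_one, mul_one] at h5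
        exact h5.symm

end Two

end Cfsg.Agent.H292.SymTwo
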