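import Mathlib
import Cfsg.Agent.CpAut.Psl
import Cfsg.Agent.CpAutU.Fixed
import Cfsg.Agent.S2697
import Cfsg.Agent.H199.PslGraphField
import Cfsg.Agent.H292.Out
import Cfsg.Agent.H292.SymTwo
import Cfsg.Agent.H292.SpCen

/-!
# Involutory automorphisms of `PSL_n(F)`, `F` finite of characteristic two (helper292)

* `settU` : the fixed points of the standard graph-field automorphism;
* `gam_fixed` : the fixed points of the graph automorphism attached to a symmetric matrix;
* `out` : the involutory automorphisms and their fixed points.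
-/

set_option autoImplicit false
set_option linter.unusedSectionVars false
set_option linter.style.haveILetI false

namespace Cfsg.Agent.H292.PslTwo

open Matrix Cfsg
open Cfsg.Agent.ClassicalGeometry.AutPSL.Root
open Cfsg.Agent.ClassicalGeometry.AutPSL.Auto
open Cfsg.Agent.ClassicalGeometry.AutPSL.Main
open Cfsg.Agent.CpAut.Fix Cfsg.Agent.CpAut.Psl
open Cfsg.Agent.H999.PslGraph Cfsg.Agent.H999.PslGraphTwo
open Cfsg.Agent.H292.Out Cfsg.Agent.H292.SymTwo
open scoped commutatorElement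

section unitary

variable {F : Type*} [Field F] [Fintype F] {n q : ℕ}

theorem invol {σ : F ≃+* F} (hσ : orderOf σ = 2) (a : F) : σ (σ a) = a := by
  have h1 : σ ^ 2 = 1 := by rw [← hσ, pow_orderOf_eq_one]
  exact DFunLike.congr_fun h1 a

theorem mem_SU_iff (hF : Fintype.card F = q ^ 2) {σ : F ≃+* F} (hσ : orderOf σ = 2)
    (g : Matrix.SpecialLinearGroup (Fin n) F) :
    g ∈ SU n F q ↔ (fld σ * itr : MulAut (Matrix.SpecialLinearGroup (Fin n) F)) g = g := by
  have hq : q ≠ 0 := by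
    have := Cfsg.Agent.ClassicalGeometry.GUBasic.two_le hF
    omega
  have hpow := Cfsg.Agent.H199.PslGraphField.eq_pow hF hσ
  have hinv := invol hσ
  have h0 : g ∈ SU n F q ↔ (g : Matrix (Fin n) (Fin n) F)ᵀ * (g : Matrix (Fin n) (Fin n) F).map σ = 1 :=
    Cfsg.Agent.H199.PslGraphField.mem_GU_iff' hq hpow (Matrix.SpecialLinearGroup.toGL g)
  have h1 : (((fld σ * itr : MulAut (Matrix.SpecialLinearGroup (Fin n) F)) g : Matrix.SpecialLinearGroup (Fin n) F) :
      Matrix (Fin n) (Fin n) F) = (((g⁻¹ : Matrix.SpecialLinearGroup (Fin n) F) : Matrix (Fin n) (Fin n) F)ᵀ).map σ := rfl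
  have h2 : ((g⁻¹ : Matrix.SpecialLinearGroup (Fin n) F) : Matrix (Fin n) (Fin n) F) * (g : Matrix (Fin n) (Fin n) F) = 1 := by
    rw [← Matrix.SpecialLinearGroup.coe_mul, inv_mul_cancel, Matrix.SpecialLinearGroup.coe_one]
  have h3 : (g : Matrix (Fin n) (Fin n) F) * ((g⁻¹ : Matrix.SpecialLinearGroup (Fin n) F) : Matrix (Fin n) (Fin n) F) = 1 := by
    rw [← Matrix.SpecialLinearGroup.coe_mul, mul_inv_cancel, Matrix.SpecialLinearGroup.coe_one]
  have hmm : ∀ M N : Matrix (Fin n) (Fin n) F, (M * N).map σ = M.map σ * N.map σ := fun M N =>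
    Matrix.map_mul (f := (σ : F →+* F))
  have hone : (1 : Matrix (Fin n) (Fin n) F).map σ = 1 := Matrix.map_one σ (map_zero σ) (map_one σ)
  rw [h0]
  constructor
  · intro h
    apply Subtype.ext
    rw [h1]
    have h4 : (((g : Matrix (Fin n) (Fin n) F)ᵀ).map σ) * (g : Matrix (Fin n) (Fin n) F) = 1 := by
      have h5 := congrArg Matrix.transpose h
      rwa [transpose_mul, transpose_transpose, transpose_one] at h5
    have h5 : ((((g⁻¹ : Matrix.SpecialLinearGroup (Fin n) F) : Matrix (Fin n) (Fin n) F)ᵀ).map σ) *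
        (((g : Matrix (Fin n) (Fin n) F)ᵀ).map σ) = 1 := by
      rw [← hmm, ← transpose_mul, h3, transpose_one, hone]
    calc (((g⁻¹ : Matrix.SpecialLinearGroup (Fin n) F) : Matrix (Fin n) (Fin n) F)ᵀ).map σ
        = ((((g⁻¹ : Matrix.SpecialLinearGroup (Fin n) F) : Matrix (Fin n) (Fin n) F)ᵀ).map σ) *
          ((((g : Matrix (Fin n) (Fin n) F)ᵀ).map σ) * (g : Matrix (Fin n) (Fin n) F)) := by rw [h4, mul_one]
      _ = _ := by rw [← mul_assoc, h5, one_mul]
  · intro h
    have h4 := congrArg (fun y : Matrix.SpecialLinearGroup (Fin n) F => (y : Matrix (Fin n) (Fin n) F).map σ) h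
    have h5 : ((((g⁻¹ : Matrix.SpecialLinearGroup (Fin n) F) : Matrix (Fin n) (Fin n) F)ᵀ).map σ).map σ =
        ((g⁻¹ : Matrix.SpecialLinearGroup (Fin n) F) : Matrix (Fin n) (Fin n) F)ᵀ := by
      ext i j
      exact hinv _
    have h6 : ((g⁻¹ : Matrix.SpecialLinearGroup (Fin n) F) : Matrix (Fin n) (Fin n) F)ᵀ =
        (g : Matrix (Fin n) (Fin n) F).map σ := by
      rw [← h5]
      exact h4
    rw [← h6, ← transpose_mul, h2, transpose_one]

/-- The fixed points of the standard graph-field automorphism. -/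
theorem settU (hF : Fintype.card F = q ^ 2) (hn : 3 ≤ n) {σ : F ≃+* F} (hσ : orderOf σ = 2) :
    Sett (QuotientGroup.mk' (Subgroup.center (Matrix.SpecialLinearGroup (Fin n) F))) (fld σ * itr)
      (lift (fld σ * itr)) (SU n F q).subtype where
  surj := QuotientGroup.mk'_surjective _
  ker := by rw [QuotientGroup.ker_mk']
  compat h := rfl
  inj := Subtype.val_injective
  fix h := (mem_SU_iff hF hσ _).1 h.2
  comm a b ha hb := by
    rw [Subgroup.range_subtype]
    rw [mem_SU_iff hF hσ, map_commutatorElement, ha, hb]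
  cen h := by
    rw [QuotientGroup.mk'_apply, QuotientGroup.eq_one_iff, Matrix.SpecialLinearGroup.mem_center_iff]
    constructor
    · rintro ⟨r, hr, h1⟩
      refine Cfsg.Agent.ClassicalGeometry.PSUAutBasic.mem_center_of_act (c := r) fun v => ?_
      change (h : Matrix.SpecialLinearGroup (Fin n) F).1 *ᵥ v = r • v
      change scalar (Fin n) r = (h : Matrix.SpecialLinearGroup (Fin n) F).1 at h1
      rw [← h1]
      funext i
      simp [Matrix.scalar_apply, mulVec_diagonal]
    · intro hc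
      obtain ⟨c, hcn, hcq, rfl⟩ := (Cfsg.Agent.LieClassical.SUBasic.mem_center_SU_iff hF hn h).1 hc
      refine ⟨c, ?_, ?_⟩
      · rw [Fintype.card_fin]; exact hcn
      · rfl

end unitary

section graph

variable {F : Type*} [Field F] [CharP F 2] {n : ℕ}

theorem det_iso {B : GL (Fin n) F} {P : GL (Fin n) F} (hP : P ∈ isoG (B : Matrix (Fin n) (Fin n) F)) :
    (P : Matrix (Fin n) (Fin n) F).det = 1 := by
  have h1 := congrArg Matrix.det (mem_isoG.1 hP)
  rw [det_mul, det_mul, det_transpose] at h1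
  have hB : (B : Matrix (Fin n) (Fin n) F).det ≠ 0 := by
    intro h
    have h2 : (B : Matrix (Fin n) (Fin n) F).det * ((B⁻¹ : GL (Fin n) F) : Matrix (Fin n) (Fin n) F).det = 1 := by
      rw [← det_mul, ← Units.val_mul, mul_inv_cancel, Units.val_one, det_one]
    rw [h, zero_mul] at h2
    exact zero_ne_one h2
  apply eq_of_sq_eq
  apply mul_right_cancel₀ hB
  linear_combination h1

/-- isometries in `SL` -/
def toSL (B : GL (Fin n) F) : ↥(isoG (B : Matrix (Fin n) (Fin n) F)) →* Matrix.SpecialLinearGroup (Fin n) F where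
  toFun P := ⟨((P : GL (Fin n) F) : Matrix (Fin n) (Fin n) F), det_iso P.2⟩
  map_one' := rfl
  map_mul' _ _ := rfl

theorem coe_toSL (B : GL (Fin n) F) (P : ↥(isoG (B : Matrix (Fin n) (Fin n) F))) :
    (toSL B P : Matrix (Fin n) (Fin n) F) = ((P : GL (Fin n) F) : Matrix (Fin n) (Fin n) F) := rfl

theorem gam_pr (B : GL (Fin n) F) (g : Matrix.SpecialLinearGroup (Fin n) F) :
    gam B (pr g) = pr (cj B⁻¹ (itr g)) := rfl

/-- The fixed points of a graph automorphism. -/
theorem gam_fixed [Finite F] (hn : 1 ≤ n) (B : GL (Fin n) F) :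
    Nonempty (↥(isoG (B : Matrix (Fin n) (Fin n) F)) ≃* ↥(fixedSubgroup (gam B))) := by
  have hinv : ∀ P : GL (Fin n) F, (P : Matrix (Fin n) (Fin n) F) * ((P⁻¹ : GL (Fin n) F) : Matrix (Fin n) (Fin n) F) = 1 :=
    fun P => by rw [← Units.val_mul, mul_inv_cancel, Units.val_one]
  have hinv' : ∀ P : GL (Fin n) F, ((P⁻¹ : GL (Fin n) F) : Matrix (Fin n) (Fin n) F) * (P : Matrix (Fin n) (Fin n) F) = 1 :=
    fun P => by rw [← Units.val_mul, inv_mul_cancel, Units.val_one]
  have hgi : ∀ g : Matrix.SpecialLinearGroup (Fin n) F,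
      ((g⁻¹ : Matrix.SpecialLinearGroup (Fin n) F) : Matrix (Fin n) (Fin n) F) * (g : Matrix (Fin n) (Fin n) F) = 1 := by
    intro g
    rw [← Matrix.SpecialLinearGroup.coe_mul, inv_mul_cancel, Matrix.SpecialLinearGroup.coe_one]
  have hgi' : ∀ g : Matrix.SpecialLinearGroup (Fin n) F,
      (g : Matrix (Fin n) (Fin n) F) * ((g⁻¹ : Matrix.SpecialLinearGroup (Fin n) F) : Matrix (Fin n) (Fin n) F) = 1 := by
    intro g
    rw [← Matrix.SpecialLinearGroup.coe_mul, mul_inv_cancel, Matrix.SpecialLinearGroup.coe_one]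
  have hcoe : ∀ g : Matrix.SpecialLinearGroup (Fin n) F, ((cj B⁻¹ (itr g) : Matrix.SpecialLinearGroup (Fin n) F) :
      Matrix (Fin n) (Fin n) F) = ((B⁻¹ : GL (Fin n) F) : Matrix (Fin n) (Fin n) F) *
        ((g⁻¹ : Matrix.SpecialLinearGroup (Fin n) F) : Matrix (Fin n) (Fin n) F)ᵀ * (B : Matrix (Fin n) (Fin n) F) := by
    intro g
    rw [coe_cj, inv_inv]
    rfl
  let f : ↥(isoG (B : Matrix (Fin n) (Fin n) F)) →* ↥(fixedSubgroup (gam B)) :=
    ((pr (ι := Fin n) (F := F)).comp (toSL B)).codRestrict _ (by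
      intro P
      rw [mem_fixed]
      change gam B (pr (toSL B P)) = pr (toSL B P)
      rw [gam_pr]
      congr 1
      apply Subtype.ext
      have hP := mem_isoG.1 P.2
      have h1 := hgi' (toSL B P)
      have h2 : ((P : GL (Fin n) F) : Matrix (Fin n) (Fin n) F)ᵀ *
          (((toSL B P)⁻¹ : Matrix.SpecialLinearGroup (Fin n) F) : Matrix (Fin n) (Fin n) F)ᵀ = 1 := by
        rw [← transpose_mul]
        have := hgi (toSL B P)
        rw [coe_toSL] at this
        rw [this, transpose_one]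
      have h3 : (((toSL B P)⁻¹ : Matrix.SpecialLinearGroup (Fin n) F) : Matrix (Fin n) (Fin n) F)ᵀ *
          ((P : GL (Fin n) F) : Matrix (Fin n) (Fin n) F)ᵀ = 1 := by
        rw [← transpose_mul]
        have := hgi' (toSL B P)
        rw [coe_toSL] at this
        rw [this, transpose_one]
      rw [hcoe, coe_toSL]
      calc ((B⁻¹ : GL (Fin n) F) : Matrix (Fin n) (Fin n) F) *
            (((toSL B P)⁻¹ : Matrix.SpecialLinearGroup (Fin n) F) : Matrix (Fin n) (Fin n) F)ᵀ * (B : Matrix (Fin n) (Fin n) F)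
          = ((B⁻¹ : GL (Fin n) F) : Matrix (Fin n) (Fin n) F) *
            ((((toSL B P)⁻¹ : Matrix.SpecialLinearGroup (Fin n) F) : Matrix (Fin n) (Fin n) F)ᵀ *
              (((P : GL (Fin n) F) : Matrix (Fin n) (Fin n) F)ᵀ * (B : Matrix (Fin n) (Fin n) F) *
                ((P : GL (Fin n) F) : Matrix (Fin n) (Fin n) F))) := by rw [hP, mul_assoc]
        _ = ((B⁻¹ : GL (Fin n) F) : Matrix (Fin n) (Fin n) F) *
            (((((toSL B P)⁻¹ : Matrix.SpecialLinearGroup (Fin n) F) : Matrix (Fin n) (Fin n) F)ᵀ *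
              ((P : GL (Fin n) F) : Matrix (Fin n) (Fin n) F)ᵀ) * (B : Matrix (Fin n) (Fin n) F) *
                ((P : GL (Fin n) F) : Matrix (Fin n) (Fin n) F)) := by simp only [mul_assoc]
        _ = _ := by rw [h3, one_mul, ← mul_assoc, hinv', one_mul])
  have hf : ∀ P, (f P : Matrix.ProjectiveSpecialLinearGroup (Fin n) F) = pr (toSL B P) := fun P => rfl
  refine ⟨MulEquiv.ofBijective f ⟨?_, ?_⟩⟩
  · rw [injective_iff_map_eq_one]
    intro P hP
    have h1 : pr (toSL B P) = 1 := by rw [← hf, hP]; rfl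
    have h2 : toSL B P ∈ Subgroup.center (Matrix.SpecialLinearGroup (Fin n) F) := (QuotientGroup.eq_one_iff _).1 h1
    obtain ⟨r, hr, hr'⟩ := Matrix.SpecialLinearGroup.mem_center_iff.1 h2
    have h3 : ((P : GL (Fin n) F) : Matrix (Fin n) (Fin n) F) = r • (1 : Matrix (Fin n) (Fin n) F) := by
      rw [← coe_toSL]
      rw [← hr', scalar_apply, smul_one_eq_diagonal]
    have h4 := mem_isoG.1 P.2
    rw [h3, transpose_smul, transpose_one, Matrix.smul_mul, Matrix.one_mul, Matrix.mul_smul, Matrix.mul_one,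
      smul_smul] at h4
    have h5 : (r * r - 1) • (B : Matrix (Fin n) (Fin n) F) = 0 := by rw [sub_smul, h4, one_smul, sub_self]
    have hB0 : (B : Matrix (Fin n) (Fin n) F) ≠ 0 := by
      intro h
      have h6 := hinv B
      rw [h, zero_mul] at h6
      have h7 := congrFun (congrFun h6 ⟨0, by omega⟩) ⟨0, by omega⟩
      simp at h7
    have h6 : r * r = 1 := sub_eq_zero.1 ((smul_eq_zero.1 h5).resolve_right hB0)
    have h7 : r = 1 := eq_of_sq_eq (by rw [pow_two, h6, one_pow])
    apply Subtype.ext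
    apply Units.ext
    rw [h3, h7, one_smul]
    rfl
  · rintro ⟨y, hy⟩
    obtain ⟨g, rfl⟩ := pr_surjective y
    rw [mem_fixed, gam_pr] at hy
    have h1 := QuotientGroup.eq.1 hy.symm
    obtain ⟨r, hr, hr'⟩ := Matrix.SpecialLinearGroup.mem_center_iff.1 h1
    rw [Fintype.card_fin] at hr
    have h2 : cj B⁻¹ (itr g) = g * (g⁻¹ * cj B⁻¹ (itr g)) := by group
    have h3 := congrArg (fun y : Matrix.SpecialLinearGroup (Fin n) F => (y : Matrix (Fin n) (Fin n) F)) h2
    simp only [Matrix.SpecialLinearGroup.coe_mul g] at h3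
    rw [← hr', hcoe, scalar_apply, ← smul_one_eq_diagonal, Matrix.mul_smul, mul_one] at h3
    -- `gᵀ B g = r⁻¹ B`
    have h4 : (B : Matrix (Fin n) (Fin n) F) = r • ((g : Matrix (Fin n) (Fin n) F)ᵀ * (B : Matrix (Fin n) (Fin n) F) *
        (g : Matrix (Fin n) (Fin n) F)) := by
      have h5 : (g : Matrix (Fin n) (Fin n) F)ᵀ *
          ((g⁻¹ : Matrix.SpecialLinearGroup (Fin n) F) : Matrix (Fin n) (Fin n) F)ᵀ = 1 := by
        rw [← transpose_mul, hgi, transpose_one]
      calc (B : Matrix (Fin n) (Fin n) F)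
          = (g : Matrix (Fin n) (Fin n) F)ᵀ * ((B : Matrix (Fin n) (Fin n) F) *
            (((B⁻¹ : GL (Fin n) F) : Matrix (Fin n) (Fin n) F) *
              ((g⁻¹ : Matrix.SpecialLinearGroup (Fin n) F) : Matrix (Fin n) (Fin n) F)ᵀ * (B : Matrix (Fin n) (Fin n) F))) := by
            rw [← mul_assoc (B : Matrix (Fin n) (Fin n) F), ← mul_assoc (B : Matrix (Fin n) (Fin n) F), hinv, one_mul,
              ← mul_assoc, h5, one_mul]
        _ = _ := by rw [h3, Matrix.mul_smul, Matrix.mul_smul, mul_assoc]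
    obtain ⟨s, hs⟩ := exists_sqrt r
    have hsn : s ^ n = 1 := by
      apply eq_of_sq_eq
      rw [← pow_mul, mul_comm, pow_mul, hs, hr, one_pow]
    have hdet : (s • (g : Matrix (Fin n) (Fin n) F)).det = 1 := by
      rw [det_smul, Fintype.card_fin, hsn, one_mul]
      exact g.2
    let g' : Matrix.SpecialLinearGroup (Fin n) F := ⟨s • (g : Matrix (Fin n) (Fin n) F), hdet⟩
    have hg' : (g' : Matrix (Fin n) (Fin n) F) = s • (g : Matrix (Fin n) (Fin n) F) := rfl
    have hmem : Matrix.SpecialLinearGroup.toGL g' ∈ isoG (B : Matrix (Fin n) (Fin n) F) := by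
      rw [mem_isoG]
      change (g' : Matrix (Fin n) (Fin n) F)ᵀ * (B : Matrix (Fin n) (Fin n) F) * (g' : Matrix (Fin n) (Fin n) F) = _
      rw [hg', transpose_smul, Matrix.mul_smul, Matrix.smul_mul, Matrix.smul_mul, smul_smul, ← pow_two, hs]
      exact h4.symm
    refine ⟨⟨_, hmem⟩, ?_⟩
    apply Subtype.ext
    rw [hf]
    have h5 : toSL B ⟨_, hmem⟩ = g' := Subtype.ext rfl
    rw [h5]
    symm
    apply QuotientGroup.eq.2
    rw [Matrix.SpecialLinearGroup.mem_center_iff]
    refine ⟨s, by rw [Fintype.card_fin]; exact hsn, ?_⟩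
    rw [Matrix.SpecialLinearGroup.coe_mul, hg', Matrix.mul_smul, hgi, scalar_apply, smul_one_eq_diagonal]

/-- Central involutions of the isometry group. -/
theorem cen_of_iso {K : Type*} [Group K] {x : MulAut K} {G : Type*} [Group G] {H : Subgroup G}
    (e : ↥H ≃* ↥(fixedSubgroup x)) (h : ∃ z ∈ H, z ≠ 1 ∧ z * z = 1 ∧ ∀ y ∈ H, y * z = z * y) : Cen x := by
  obtain ⟨z, hz, h1, h2, h3⟩ := h
  refine ⟨(e ⟨z, hz⟩ : K), ?_, ?_, (e ⟨z, hz⟩).2, ?_⟩
  · intro h
    apply h1
    have h4 : e ⟨z, hz⟩ = 1 := Subtype.ext h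
    have h5 := e.injective (h4.trans (map_one e).symm)
    exact congrArg Subtype.val h5
  · have h4 : (⟨z, hz⟩ : ↥H) * ⟨z, hz⟩ = 1 := Subtype.ext h2
    have h5 := congrArg e h4
    rw [map_mul, map_one] at h5
    exact congrArg Subtype.val h5
  · intro y hy
    obtain ⟨⟨y', hy'⟩, h4⟩ := e.surjective ⟨y, hy⟩
    have h5 : (⟨y', hy'⟩ : ↥H) * ⟨z, hz⟩ = ⟨z, hz⟩ * ⟨y', hy'⟩ := Subtype.ext (h3 y' hy')
    have h6 := congrArg e h5
    rw [map_mul, map_mul, h4] at h6
    exact congrArg Subtype.val h6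

end graph

section main

universe u

variable {F : Type u} [Field F] [Fintype F] [CharP F 2] {n : ℕ}

theorem sq_graph (A : GL (Fin n) F) (σ : F ≃+* F) :
    (cj A * fld σ * itr : MulAut (Matrix.SpecialLinearGroup (Fin n) F)) ^ 2 =
      cj (A * fgl σ (itg A)) * fld (σ * σ) := by
  have h1 : (itr : MulAut (Matrix.SpecialLinearGroup (Fin n) F)) * itr = 1 := itr_mul_itr
  calc (cj A * fld σ * itr : MulAut (Matrix.SpecialLinearGroup (Fin n) F)) ^ 2
      = cj A * fld σ * (itr * cj A) * fld σ * itr := by rw [pow_two]; simp only [mul_assoc]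
    _ = cj A * (fld σ * cj (itg A)) * (itr * fld σ) * itr := by rw [itr_mul_cj]; simp only [mul_assoc]
    _ = cj A * cj (fgl σ (itg A)) * (fld σ * fld σ) * (itr * itr) := by
        rw [itr_mul_fld, fld_mul_cj]; simp only [mul_assoc]
    _ = _ := by rw [h1, mul_one, map_mul cj, map_mul fld]

/-- **The involutory automorphisms of `PSL_n(F)` in characteristic two.** -/
theorem out (hn : 2 ≤ n) {x : MulAut (Matrix.ProjectiveSpecialLinearGroup (Fin n) F)} (hx : x ^ 2 = 1) (hx1 : x ≠ 1) :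
    x ∈ (MulAut.conj : Matrix.ProjectiveSpecialLinearGroup (Fin n) F →* _).range ∨ Cen x ∨
    (∃ (F₀ : Type u) (_ : Field F₀) (_ : Fintype F₀), Fintype.card F = Fintype.card F₀ ^ 2 ∧
      Core x (Matrix.ProjectiveSpecialLinearGroup (Fin n) F₀)) ∨
    (3 ≤ n ∧ ∃ q, Fintype.card F = q ^ 2 ∧ Core x (PSU n F q)) ∨
    (3 ≤ n ∧ ∃ m, (n = 2 * m ∨ n = 2 * m + 1) ∧ Core x (PSp m F)) := by
  have hp : Fact (Nat.Prime 2) := ⟨Nat.prime_two⟩
  have hnt : Nontrivial (Fin n) := Fin.nontrivial_iff_two_le.2 hn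
  have lin : ∀ (A : GL (Fin n) F) (σ : F ≃+* F), x = lift (cj A * fld σ) →
      x ∈ (MulAut.conj : Matrix.ProjectiveSpecialLinearGroup (Fin n) F →* _).range ∨
      (∃ (F₀ : Type u) (_ : Field F₀) (_ : Fintype F₀), Fintype.card F = Fintype.card F₀ ^ 2 ∧
        Core x (Matrix.ProjectiveSpecialLinearGroup (Fin n) F₀)) := by
    intro A σ h
    by_cases hσ : σ = 1
    · left
      rw [hσ, map_one, mul_one] at h
      rw [h]
      exact inner_of_lin hn (by rw [← h]; exact hx)
    · right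
      obtain ⟨hord, B, hB⟩ := exists_conj Nat.prime_two (A := A) (σ := σ) (by rw [← h]; exact hx) hσ
      have hfin : Fintype ↥(fixf σ) := Fintype.ofFinite _
      refine ⟨↥(fixf σ), inferInstance, hfin, ?_, ?_⟩
      · rw [CpAutU.Fld.card_fixf hord, Nat.card_eq_fintype_card]
      · have h1 := core_of_sett (sett (Fin n) σ)
        have h2 := h1.conj (lift (cj B))
        rw [← map_mul, ← map_inv, ← map_mul, ← hB, ← h] at h2
        exact h2
  rcases hn.eq_or_lt with h2 | h3
  · subst h2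
    obtain ⟨A, σ, h⟩ := surj_two 2 x
    rcases lin A σ h with h | h
    · exact Or.inl h
    · exact Or.inr (Or.inr (Or.inl h))
  have hn3 : 3 ≤ n := h3
  rcases surj_three 2 hn3 x with ⟨A, σ, h⟩ | ⟨A, σ, h⟩
  · rcases lin A σ h with h | h
    · exact Or.inl h
    · exact Or.inr (Or.inr (Or.inl h))
  · right
    by_cases hσ : σ = 1
    · -- graph automorphisms
      have h1 : x = gam A⁻¹ := by
        rw [h, hσ, map_one, mul_one, gam, inv_inv, map_mul]
        rfl
      have hord : orderOf (gam A⁻¹) = 2 := by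
        rw [← h1]
        exact orderOf_eq_prime hx hx1
      have hsym : ((A⁻¹ : GL (Fin n) F) : Matrix (Fin n) (Fin n) F)ᵀ = ((A⁻¹ : GL (Fin n) F) : Matrix (Fin n) (Fin n) F) := by
        rcases (orderOf_gam' hn3 A⁻¹).1 hord with h4 | h4
        · exact h4
        · rw [h4]
          ext i j
          rw [Matrix.neg_apply, CharTwo.neg_eq]
      obtain ⟨e⟩ := gam_fixed (by omega) A⁻¹
      rw [← h1] at e
      rcases dich A⁻¹ hsym with h4 | ⟨m, hm, ⟨e'⟩⟩
      · exact Or.inl (cen_of_iso e h4)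
      · refine Or.inr (Or.inr (Or.inr ⟨hn3, m, hm, ?_⟩))
        exact Core.of_fixed ((SpCen.spEquiv m).symm.trans (e'.symm.trans e))
    · -- graph-field automorphisms
      have h1 : lift (cj (A * fgl σ (itg A)) * fld (σ * σ)) = lift (fld (1 : F ≃+* F)) := by
        rw [← sq_graph, map_pow, ← h, hx, map_one, map_one]
      obtain ⟨-, h2⟩ := injective_aux h1
      have hord : orderOf σ = 2 := orderOf_eq_prime (by rw [pow_two, h2]) hσ
      obtain ⟨q, hq⟩ : ∃ q, Fintype.card F = q ^ 2 := ⟨_, CpAutU.Fld.card_fixf hord⟩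
      have hx0 : (lift (fld σ * itr) : MulAut (Matrix.ProjectiveSpecialLinearGroup (Fin n) F)) ^ 2 = 1 := by
        rw [← map_pow, pow_two]
        have h4 : (fld σ * itr : MulAut (Matrix.SpecialLinearGroup (Fin n) F)) * (fld σ * itr) = 1 := by
          calc (fld σ * itr : MulAut (Matrix.SpecialLinearGroup (Fin n) F)) * (fld σ * itr)
              = fld σ * (itr * fld σ) * itr := by simp only [mul_assoc]
            _ = fld (σ * σ) * (itr * itr) := by rw [itr_mul_fld, map_mul]; simp only [mul_assoc]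
            _ = 1 := by rw [itr_mul_itr, h2, map_one]; exact one_mul 1
        rw [h4, map_one]
      have hx0' : (lift (fld σ * itr) : MulAut (Matrix.ProjectiveSpecialLinearGroup (Fin n) F)) ≠ 1 := by
        intro h4
        refine not_graph (ι := Fin n) (by rw [Fintype.card_fin]; exact hn3) (C := 1) (σ := σ) (τ := 1) ?_
        rw [map_one cj, one_mul, map_one fld, map_one lift]
        exact h4
      have hconj := Cfsg.Agent.S2697.graphField hn3 hσ Nat.prime_two (orderOf_eq_prime hx0 hx0')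
        (δ := lift (cj A)) (Cfsg.Agent.H966.PSLAut.mem_inndiag.2 ⟨A, rfl⟩) (by
          rw [← map_mul, ← mul_assoc, ← h, hx])
      obtain ⟨g, -, hg⟩ := hconj
      rw [← map_mul, ← mul_assoc, ← h] at hg
      refine Or.inr (Or.inr (Or.inl ⟨hn3, q, hq, ?_⟩))
      rw [hg]
      exact (core_of_sett (settU hq hn3 hord)).conj g

end main

end Cfsg.Agent.H292.PslTwo
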