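import Mathlib
import Cfsg.Agent.H208.SimForm
import Cfsg.Agent.H198.ClassesPlus
import Cfsg.Agent.CpAut.RgdSub
import Cfsg.Agent.H292.Out

/-!
# Fixed points of semilinear automorphisms of orthogonal groups (helper292)

* `core_psi` : the standard field automorphism of `PΩ(Q)`, `Q` with coefficients in the fixed field (any characteristic):
  `Core x (P Q₀)`;
* `core_main` : `M` a semisimilitude of `Q` with nontrivial field automorphism `σ`, inducing an automorphism `x` of prime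
  order `r` of `PΩ(Q)`, `dim = 2 m ≥ 8`: `Core x` of `P` of the plus or minus form over `fix σ`;
* `card_fix` : `|F| = |fix σ| ^ r`.
-/

set_option autoImplicit false
set_option linter.unusedSectionVars false

namespace Cfsg.Agent.H292.PomSemi

open QuadraticMap Module Subgroup Cfsg
open Cfsg.Agent.LieClassical.OrthCore Cfsg.Agent.LieClassical.OrthTrans
open Cfsg.Agent.LieClassical.OrthSimple Cfsg.Agent.ClassicalGeometry.OrthSemi
  Cfsg.Agent.ClassicalGeometry.OrthAut1 Cfsg.Agent.LieClassical.OrthFinite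
open Cfsg.Agent.H966.Frob Cfsg.Agent.H208.Ext Cfsg.Agent.H208.Frame Cfsg.Agent.H208.ExtE
open Cfsg.Agent.H185.OrthCent Cfsg.Agent.H198.OrthFrame Cfsg.Agent.H198.ClassesPlus
open Cfsg.Agent.LieClassical.QuadForms
open Cfsg.Agent.H292.Out
open scoped commutatorElement

section Gen

variable {K K' : Type*} [Group K] [Group K'] {E' : Type*} [Group E']

theorem core_transport (e : K ≃* K') {x : MulAut K} {x' : MulAut K'} (hxx : ∀ k, x' (e k) = e (x k))
    (h : Core x E') : Core x' E' := by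
  have h1 : ((e.symm.trans x).trans e : MulAut K') = x' := by
    ext y
    obtain ⟨y, rfl⟩ := e.surjective y
    rw [hxx]
    change e (x (e.symm (e y))) = _
    rw [e.symm_apply_apply]
  rw [← h1]
  exact h.equiv e

end Gen

section Main

variable {F F₀ : Type*} [Field F] [Field F₀] {ι : Type} [Fintype ι] [DecidableEq ι]
  {j : F₀ →+* F} {Q₀ : QuadraticForm F₀ (ι → F₀)} {Q : QuadraticForm F (ι → F)}

/-- the isometries, as a subgroup of the similarities -/
noncomputable def OS (Q₀ : QuadraticForm F₀ (ι → F₀)) : Subgroup (Sim Q₀) :=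
  (O Q₀).comap ((gle F₀ ι).toMonoidHom.comp (Sim Q₀).subtype)

theorem mem_OS {g : Sim Q₀} : g ∈ OS Q₀ ↔ gle F₀ ι g.1 ∈ O Q₀ := Iff.rfl

/-- the elements inducing the same automorphism as a similarity in `H` -/
noncomputable def RR (hx : Ext j Q₀ Q) (H : Subgroup (Sim Q₀)) : Subgroup (P Q) :=
  (H.map ((Psi Q).comp ((simGam Q).comp (mapSim hx)))).comap (MulAut.conj : P Q →* MulAut (P Q))

theorem mem_RR {hx : Ext j Q₀ Q} {H : Subgroup (Sim Q₀)} {c : P Q} :
    c ∈ RR hx H ↔ ∃ g ∈ H, Psi Q (simGam Q (mapSim hx g)) = MulAut.conj c := Iff.rfl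

theorem RR_mono {hx : Ext j Q₀ Q} {H H' : Subgroup (Sim Q₀)} (h : H ≤ H') : RR hx H ≤ RR hx H' :=
  comap_mono (map_mono h)

theorem comm_RR (hx : Ext j Q₀ Q) (H H' : Subgroup (Sim Q₀)) : ⁅RR hx H, RR hx H'⁆ ≤ RR hx ⁅H, H'⁆ := by
  rw [commutator_le]
  intro a ha b hb
  obtain ⟨g, hg, hga⟩ := mem_RR.1 ha
  obtain ⟨k, hk, hkb⟩ := mem_RR.1 hb
  refine mem_RR.2 ⟨⁅g, k⁆, commutator_mem_commutator hg hk, ?_⟩
  rw [map_commutatorElement, map_commutatorElement, map_commutatorElement, hga, hkb, map_commutatorElement]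

theorem derived_le (hx : Ext j Q₀ Q) (hG₀ : Good Q₀) (hG : Good Q) [Nonempty ι] {σ : F ≃+* F} (hσ : Fix σ Q)
    (hj : ∀ a, σ a = a ↔ ∃ b, j b = a) (k : ℕ) :
    (derivedSeries ↥(fixedSubgroup (Psi Q (frobG hσ))) k).map (fixedSubgroup (Psi Q (frobG hσ))).subtype ≤
      RR hx (derivedSeries (Sim Q₀) k) := by
  induction k with
  | zero =>
    rintro _ ⟨c, -, rfl⟩
    obtain ⟨g, hg⟩ := H208.FixGood.exists_rat hx hG₀ hG hσ hj c.2
    exact mem_RR.2 ⟨g, mem_top _, hg.symm⟩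
  | succ k ih =>
    rw [derivedSeries_succ, map_commutator, derivedSeries_succ]
    exact (commutator_mono ih ih).trans (comm_RR hx _ _)

theorem derived_one_le (hG₀ : Good Q₀) : derivedSeries (Sim Q₀) 1 ≤ OS Q₀ := by
  rw [derivedSeries_one, commutator_def, commutator_le]
  intro a _ b _
  have h1 : mu hG₀ ⁅a, b⁆ = 1 := by
    rw [map_commutatorElement, commutatorElement_eq_one_iff_mul_comm]
    exact mul_comm _ _
  rw [mem_OS, mem_O]
  intro v
  rw [gle_apply, mu_spec hG₀, h1, Units.val_one, one_mul]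

theorem derived_two_le (hG₀ : Good Q₀) {g : Sim Q₀} (hg : g ∈ derivedSeries (Sim Q₀) 2) : gle F₀ ι g.1 ∈ E Q₀ := by
  have h1 : derivedSeries (Sim Q₀) 2 ≤ (E Q₀).comap ((gle F₀ ι).toMonoidHom.comp (Sim Q₀).subtype) := by
    rw [derivedSeries_succ, commutator_le]
    intro a ha b hb
    have ha' := derived_one_le hG₀ ha
    have hb' := derived_one_le hG₀ hb
    rw [mem_comap, map_commutatorElement]
    exact hG₀.commutator_le_E (commutator_mem_commutator ha' hb')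
  exact h1 hg

/-- **The standard field automorphism.** -/
theorem core_psi (hx : Ext j Q₀ Q) (hG₀ : Good Q₀) (hG : Good Q) [Nonempty ι] {σ : F ≃+* F} (hσ : Fix σ Q)
    (hj : ∀ a, σ a = a ↔ ∃ b, j b = a) : Core (Psi Q (frobG hσ)) (P Q₀) := by
  have hjf : ∀ b, σ (j b) = j b := fun b => (hj _).2 ⟨b, rfl⟩
  let e := embEquiv hx hG₀ hG
  refine ⟨(emb hx).range.subtype.comp e.toMonoidHom, (subtype_injective _).comp e.injective, fun y => ?_, 2, ?_⟩
  · obtain ⟨a, ha⟩ := (e y).2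
    change Psi Q (frobG hσ) (e y : P Q) = (e y : P Q)
    rw [← ha]
    exact H208.FixGood.Psi_frob_emb hx hσ hjf a
  · intro y hy
    have h1 := derived_le hx hG₀ hG hσ hj 2 (mem_map_of_mem _ hy)
    obtain ⟨g, hg, hgy⟩ := mem_RR.1 h1
    have h2 := derived_two_le hG₀ hg
    have h3 : Psi Q (simGam Q (mapSim hx g)) = MulAut.conj (emb hx ⟨gle F₀ ι g.1, h2⟩) := by
      rw [emb_apply]
      apply H208.FixGood.Psi_eq_conj
      intro v
      rw [simGam_apply, coe_mapSim, coe_extE]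
      change _ = extL j (gle F₀ ι g.1) v
      rw [extL_gle]
      rfl
    have h4 : (y : P Q) = emb hx ⟨gle F₀ ι g.1, h2⟩ := by
      have h5 : MulAut.conj ((y : P Q) * (emb hx ⟨gle F₀ ι g.1, h2⟩)⁻¹) = 1 := by
        rw [map_mul, map_inv, ← h3, hgy]
        exact mul_inv_cancel _
      have h6 : (y : P Q) * (emb hx ⟨gle F₀ ι g.1, h2⟩)⁻¹ ∈ center (P Q) := by
        rw [mem_center_iff]
        intro z
        have h7 := DFunLike.congr_fun h5 z
        rw [MulAut.conj_apply, MulAut.one_apply] at h7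
        exact (mul_inv_eq_iff_eq_mul.1 h7).symm
      rw [H208.FixGood.center_P hG, mem_bot, mul_inv_eq_one] at h6
      exact h6
    rw [mem_subgroupOf, h4]
    obtain ⟨w, hw⟩ := e.surjective ⟨emb hx ⟨gle F₀ ι g.1, h2⟩, _, rfl⟩
    exact ⟨w, congrArg Subtype.val hw⟩

end Main

section Good

variable {F V : Type*} [Field F] [Finite F] [AddCommGroup V] [Module F V] {Q : QuadraticForm F V}

/-- A semisimilitude which is `σ` in coordinates. -/
theorem core_of_fr {κ : Type} [Fintype κ] [DecidableEq κ] {q : QuadraticForm F (κ → F)} {σ : F ≃+* F}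
    (hσ : H185.OrthCent.Fix σ q)
    {q₀ : QuadraticForm (fix σ) (κ → fix σ)} (hq : ∀ x, q (inc _ x) = (q₀ x : F)) (hG₀ : Good q₀)
    {M : Gam Q} (h : Fr Q σ M.1 q) : Core (Psi Q M) (P q₀) := by
  have : Nonempty κ := by
    have := hG₀.dim
    rw [finrank_fintype_fun_eq_card] at this
    exact Fintype.card_pos_iff.1 (by omega)
  obtain ⟨T, e, he, hT, hM⟩ := h
  have hx : H185.OrthCent.Ext (fix σ).subtype q₀ q := ⟨fun v => hq v⟩
  have hG : Good q := H208.ExtE.good_ext hx hG₀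
  have h1 := core_psi hx hG₀ hG hσ (fun a => ⟨fun h => ⟨⟨a, h⟩, rfl⟩, by rintro ⟨b, rfl⟩; exact b.2⟩)
  refine core_transport (H208.SimForm.sP he hT) (fun k => H208.SimForm.sP_psi he hT (fun v => ?_) k) h1
  rw [hM, frobG_apply]
  rfl

theorem core_fr_plus {σ : F ≃+* F} {M : Gam Q} {k : ℕ} (hk : 4 ≤ k) (h : Fr Q σ M.1 (Cfsg.quadFormPlus k F)) :
    Core (Psi Q M) (POmega (fix σ) (quadFormPlus k (fix σ))) := by
  rw [← coe_plusForm] at h
  have hG : Good (plusForm k (fix σ)) := AutOrth.Main.good_plus (by omega)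
  rw [← coe_plusForm]
  refine Core.congr (AutOrth.Main.pe hG) (core_of_fr (q₀ := plusForm k (fix σ)) (fun v => ?_) (fun x => ?_) hG h)
  · rw [coe_plusForm]
    unfold Cfsg.quadFormPlus
    simp only [map_sum, map_mul]
  · rw [coe_plusForm, coe_plusForm, coe_plus]

theorem core_fr_minus {σ : F ≃+* F} {M : Gam Q} {k : ℕ} (hk : 3 ≤ k) {a b : F} (ha : σ a = a) (hb : σ b = b)
    (hab : AnisoFix σ a b) (h : Fr Q σ M.1 (Cfsg.quadFormMinus k F a b)) :
    ∃ a' b' : fix σ, (∀ z₁ z₂ : fix σ, z₁ ^ 2 + a' * z₁ * z₂ + b' * z₂ ^ 2 = 0 → z₁ = 0 ∧ z₂ = 0) ∧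
      Core (Psi Q M) (POmega (fix σ) (quadFormMinus k (fix σ) a' b')) := by
  have hani : ∀ z₁ z₂ : fix σ, z₁ ^ 2 + (⟨a, ha⟩ : fix σ) * z₁ * z₂ + (⟨b, hb⟩ : fix σ) * z₂ ^ 2 = 0 →
      z₁ = 0 ∧ z₂ = 0 := by
    intro z₁ z₂ h1
    have h2 := hab z₁ z₂ z₁.2 z₂.2 (by simpa using congrArg Subtype.val h1)
    exact ⟨Subtype.ext h2.1, Subtype.ext h2.2⟩
  refine ⟨⟨a, ha⟩, ⟨b, hb⟩, hani, ?_⟩
  rw [← coe_minusForm] at h
  rw [← coe_minusForm]
  have hG : Good (minusForm k (fix σ) (⟨a, ha⟩ : fix σ) (⟨b, hb⟩ : fix σ)) :=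
    AutOrth.Main.good_minus (by omega) hani
  refine Core.congr (AutOrth.Main.pe hG) (core_of_fr (q₀ := minusForm k (fix σ) ⟨a, ha⟩ ⟨b, hb⟩) (fun v => ?_)
    (fun x => ?_) hG h)
  · rw [coe_minusForm]
    unfold Cfsg.quadFormMinus
    simp only [map_add, map_sum, map_mul, map_pow, ha, hb]
  · rw [coe_minusForm, coe_minusForm, coe_minus]

/-- **Semisimilitudes with a nontrivial field automorphism.** -/
theorem core_main [FiniteDimensional F V] (hG : Good Q) {m : ℕ} (hV : finrank F V = 2 * m) (hm : 4 ≤ m) {M : Gam Q}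
    {σ : F ≃+* F} {c : F} (hM : IsSS Q σ c M.1) (hσ : σ ≠ 1) {r : ℕ} (hr : r.Prime) (h : Psi Q M ^ r = 1) :
    orderOf σ = r ∧ (Core (Psi Q M) (POmega (fix σ) (quadFormPlus m (fix σ))) ∨
      ∃ a b : fix σ, (∀ z₁ z₂ : fix σ, z₁ ^ 2 + a * z₁ * z₂ + b * z₂ ^ 2 = 0 → z₁ = 0 ∧ z₂ = 0) ∧
        Core (Psi Q M) (POmega (fix σ) (quadFormMinus (m - 1) (fix σ) a b))) := by
  have := H208.ConjSS.nontrivial_of_good hG
  obtain ⟨ho, a, ha⟩ := H208.ConjSS.exists_normal hG hM hσ hr h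
  refine ⟨ho, ?_⟩
  obtain ⟨c', hc'⟩ := H208.ConjSS.isSS_scal_mul hM a
  have h1 : Psi Q (scal Q a * M) = Psi Q M := by rw [map_mul, H208.ConjSS.Psi_scal hG, one_mul]
  rw [← h1]
  rcases normal_form hG.nondeg hc' ho hr.pos ha with ⟨k, hk, -⟩ | ⟨k, hk, hf⟩ | ⟨k, hk, a', b', ha', hb', hab, hf⟩
  · omega
  · obtain rfl : m = k := by omega
    exact Or.inl (core_fr_plus hm hf)
  · obtain rfl : m - 1 = k := by omega
    exact Or.inr (core_fr_minus (by omega) ha' hb' hab hf)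

/-- The fixed field. -/
theorem card_fix {σ : F ≃+* F} {r : ℕ} (hr : r.Prime) (hσ : orderOf σ = r) :
    Nat.card F = Nat.card (fix σ) ^ r := by
  have : Fintype F := Fintype.ofFinite F
  exact Cfsg.Agent.CpAut.RgdSub.card_fixF hr (by rw [← hσ, pow_orderOf_eq_one]) (by
    rintro rfl
    rw [orderOf_one] at hσ
    exact hr.one_lt.ne hσ)

end Good

end Cfsg.Agent.H292.PomSemi
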