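import Mathlib
import Cfsg.Agent.H292.PslTwo
import Cfsg.Agent.H292.PsuTwo
import Cfsg.Agent.H292.PspTwo
import Cfsg.Agent.H292.OrthTwo
import Cfsg.Agent.H292.Oct
import Cfsg.Agent.H284.CharTwoComp
import Cfsg.Agent.EvenType.ChevTwo
import Cfsg.Agent.EvenType.CharTwoCent
import Cfsg.Agent.H902.Compare
import Cfsg.Agent.BpAlt.Row
import Cfsg.Agent.CpAut.Base
import Cfsg.Agent.S0244
import Cfsg.Agent.S0247
import Cfsg.Agent.S0249
import Cfsg.Agent.S0250
import Cfsg.Agent.S0270
import Cfsg.Agent.S0282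
import Cfsg.Agent.S0283
import Cfsg.Agent.S0296
import Cfsg.Agent.S0297

/-!
# Components of the fixed points of involutory automorphisms: classical groups in characteristic two (helper292)

* `Pr g h` : the pairs of names `(K, A)`;
* `row_psl`, `row_psu`, `row_psp` (`m ≥ 3`), `row_plus`, `row_minus` : `x` an involutory automorphism of `K`, `A` a
  component of the group of fixed points: `Pr (name of K) h` and `h` is the name of `A`;
* `row` : the same for every classical group of characteristic two except `PSp_4(q)`.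
-/

set_option autoImplicit false
set_option linter.unusedSectionVars false

namespace Cfsg.Agent.H292.Rows

open Subgroup Cfsg Cfsg.Agent.OrdDiv Cfsg.Agent.H902 Cfsg.Agent.H902.Names
open Cfsg.Agent.H292.Out

universe u v w

/-! ### tools -/

section Tools

variable {K : Type u} [Group K]

theorem _root_.Cfsg.Agent.H292.Out.Core.sub {x : MulAut K} {E : Type w} [Group E] (h : Core x E) (N : Subgroup E)
    (hN : commutator E ≤ N) : Core x ↥N := by
  obtain ⟨f, h1, h2, k, h3⟩ := h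
  refine ⟨f.comp N.subtype, h1.comp (subtype_injective _), fun y => h2 _, k + 1, ?_⟩
  rw [derivedSeries_succ]
  refine (commutator_mono h3 h3).trans ?_
  intro y hy
  have h4 : (y : K) ∈ ⁅f.range, f.range⁆ := by
    have h5 : ⁅f.range.subgroupOf (fixedSubgroup x), f.range.subgroupOf (fixedSubgroup x)⁆.map
        (fixedSubgroup x).subtype ≤ ⁅f.range, f.range⁆ := by
      rw [map_commutator]
      exact commutator_mono ((subgroupOf_map_subtype _ _).le.trans inf_le_left)
        ((subgroupOf_map_subtype _ _).le.trans inf_le_left)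
    exact h5 ⟨y, hy, rfl⟩
  rw [MonoidHom.range_eq_map, ← map_commutator] at h4
  obtain ⟨e, he, hey⟩ := h4
  exact ⟨⟨e, hN he⟩, hey⟩

/-- No components if `E` is solvable. -/
theorem no_comp_of_solvable {x : MulAut K} {E : Type w} [Group E] (h : Core x E) (hE : Group.IsSolvable E)
    {A : Subgroup ↥(fixedSubgroup x)} (hA : IsComponent A) : False := by
  obtain ⟨f, h1, h2, k, h3⟩ := h
  have hs : Group.IsSolvable ↥(f.range) := Group.isSolvable_of_surjective (f := f.rangeRestrict) f.rangeRestrict_surjective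
  have hAN : A ≤ f.range.subgroupOf (fixedSubgroup x) := (le_derived hA.2 k).trans h3
  let g : ↥A →* ↥(f.range) :=
    { toFun := fun a => ⟨((a : ↥(fixedSubgroup x)) : K), hAN a.2⟩
      map_one' := rfl
      map_mul' := fun _ _ => rfl }
  have hg : Function.Injective g := by
    intro a b hab
    exact Subtype.ext (Subtype.ext (congrArg (fun z : ↥f.range => (z : K)) hab))
  have h4 : Group.IsSolvable ↥A := Group.isSolvable_of_isSolvable_injective hg
  exact SignalizersComponents.Components.quasisimple_not_isSolvable hA.2 h4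

variable [Finite K]

theorem no_comp_of_cen (hK : H284.CharTwoComp.ACT K) {x : MulAut K} (hx : x * x = 1) (hc : Cen x)
    {A : Subgroup ↥(fixedSubgroup x)} (hA : IsComponent A) : False := by
  obtain ⟨z, hz1, hz2, hxz, hz⟩ := hc
  let z' : ↥(fixedSubgroup x) := ⟨z, hxz⟩
  have ho : orderOf z = 2 := orderOf_eq_prime (by rw [pow_two, hz2]) hz1
  have h1 := CpAut.TwoAbs.ct_cent_fix hx z' (hK z ho)
  have h2 : A ≤ centralizer ({z'} : Set ↥(fixedSubgroup x)) := by
    intro a _
    rw [mem_centralizer_singleton_iff]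
    exact Subtype.ext (hz _ a.2)
  exact CpAut.TwoAbs.no_component_of_ct h1 _ (SignalizersComponents.Components.isComponent_subgroupOf h2 hA)

theorem cen_of_inner (hZ : center K = ⊥) {x : MulAut K} (hx : x * x = 1) (hx1 : x ≠ 1)
    (h : ∃ y, x = MulAut.conj y) : Cen x := by
  obtain ⟨y, rfl⟩ := h
  refine ⟨y, ?_, ?_, ?_, ?_⟩
  · rintro rfl
    exact hx1 (map_one _)
  · rw [← map_mul] at hx
    have h1 : y * y ∈ center K := by
      rw [mem_center_iff]
      intro g
      have h2 := DFunLike.congr_fun hx g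
      rw [MulAut.conj_apply, MulAut.one_apply] at h2
      exact (mul_inv_eq_iff_eq_mul.1 h2).symm
    rwa [hZ, mem_bot] at h1
  · rw [MulAut.conj_apply, mul_inv_cancel_right]
  · intro g hg
    rw [MulAut.conj_apply] at hg
    exact (mul_inv_eq_iff_eq_mul.1 hg).symm

theorem act_of_chev [IsSimpleGroup K] (hna : ¬ IsMulCommutative K) (hK : IsChevSimple 2 K) :
    H284.CharTwoComp.ACT K := fun _ hu =>
  EvenType.CharTwoCent.char2_centralizer (EvenType.ChevTwo.charTwo hna hK) hu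

/-- inner automorphisms and automorphisms with a central involution -/
theorem no_comp [IsSimpleGroup K] (hna : ¬ IsMulCommutative K) (hK : IsChevSimple 2 K) {x : MulAut K}
    (hx : x * x = 1) (hx1 : x ≠ 1) {A : Subgroup ↥(fixedSubgroup x)} (hA : IsComponent A)
    (h : (∃ y, x = MulAut.conj y) ∨ Cen x) : False := by
  have hc : Cen x := by
    rcases h with h | h
    · exact cen_of_inner (CpAut.center_eq_bot_of_simple hna) hx hx1 h
    · exact h
  exact no_comp_of_cen (act_of_chev hna hK) hx hc hA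

end Tools

/-! ### names -/

section Nam

variable {S : Type u} [Group S]

theorem card_two (F : Type) [Field F] [Fintype F] [CharP F 2] : ∃ f, 1 ≤ f ∧ Fintype.card F = 2 ^ f := by
  obtain ⟨n, -, h⟩ := FiniteField.card F 2
  exact ⟨n, n.pos, h⟩

theorem nam_psl (F : Type) [Field F] [Fintype F] [CharP F 2] {n : ℕ} (hn : 2 ≤ n) (hn2 : n = 2 → 4 ≤ Fintype.card F)
    (e : S ≃* Matrix.ProjectiveSpecialLinearGroup (Fin n) F) :
    Real (.psl n (Fintype.card F)) S ∧ N2 (.psl n (Fintype.card F)) (Nat.card S) := by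
  obtain ⟨f, hf, hF⟩ := card_two F
  rw [hF] at hn2
  refine ⟨⟨F, inferInstance, inferInstance, rfl, ⟨e⟩⟩, Or.inr ⟨.L n, 2, f, ?_, ?_⟩⟩
  · rw [hF]; exact .psl n 2 f
  · rw [Nat.card_congr e.toEquiv]; exact psl_real Nat.prime_two hf hF hn hn2

theorem nam_psp (F : Type) [Field F] [Fintype F] [CharP F 2] {n : ℕ} (hn : 2 ≤ n) (hn2 : n = 2 → 3 ≤ Fintype.card F)
    (e : S ≃* PSp n F) :
    Real (.psp n (Fintype.card F)) S ∧ N2 (.psp n (Fintype.card F)) (Nat.card S) := by
  obtain ⟨f, hf, hF⟩ := card_two F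
  rw [hF] at hn2
  refine ⟨⟨F, inferInstance, inferInstance, rfl, ⟨e⟩⟩, Or.inr ⟨.C n, 2, f, ?_, ?_⟩⟩
  · rw [hF]; exact .psp n 2 f
  · rw [Nat.card_congr e.toEquiv]; exact psp_real Nat.prime_two hf hF hn hn2

theorem q_two {F : Type} [Field F] [Fintype F] [CharP F 2] {q : ℕ} (hF : Fintype.card F = q ^ 2) :
    ∃ f, 1 ≤ f ∧ q = 2 ^ f := by
  obtain ⟨n, hn, h⟩ := card_two F
  have h2 : q ∣ 2 ^ n := by rw [← h, hF]; exact dvd_pow_self q two_ne_zero
  obtain ⟨j, -, hj⟩ := (Nat.dvd_prime_pow Nat.prime_two).1 h2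
  refine ⟨j, ?_, hj⟩
  by_contra hcon
  have hj0 : j = 0 := by omega
  rw [hj0, pow_zero] at hj
  rw [hj, one_pow] at hF
  have := Fintype.one_lt_card (α := F)
  omega

theorem nam_psu (F : Type) [Field F] [Fintype F] [CharP F 2] {n q : ℕ} (hF : Fintype.card F = q ^ 2) (hn : 3 ≤ n)
    (h32 : ¬ (n = 3 ∧ q = 2)) (e : S ≃* PSU n F q) : Real (.psu n q) S ∧ N2 (.psu n q) (Nat.card S) := by
  obtain ⟨f, hf, rfl⟩ := q_two hF
  refine ⟨⟨F, inferInstance, inferInstance, hF, ⟨e⟩⟩, Or.inr ⟨.U n, 2, f, .psu n 2 f, ?_⟩⟩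
  rw [Nat.card_congr e.toEquiv]; exact psu_real Nat.prime_two hf hF hn h32

theorem nam_plus (F : Type) [Field F] [Fintype F] [CharP F 2] {n : ℕ} (hn : 4 ≤ n)
    (e : S ≃* POmega F (quadFormPlus n F)) :
    Real (.oplus n (Fintype.card F)) S ∧ N2 (.oplus n (Fintype.card F)) (Nat.card S) := by
  obtain ⟨f, hf, hF⟩ := card_two F
  refine ⟨⟨F, inferInstance, inferInstance, rfl, ⟨e⟩⟩, Or.inr ⟨.D n, 2, f, ?_, ?_⟩⟩
  · rw [hF]; exact .oplus n 2 f
  · rw [Nat.card_congr e.toEquiv]; exact oplus_real Nat.prime_two hf hF hn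

theorem nam_minus (F : Type) [Field F] [Fintype F] [CharP F 2] {n : ℕ} (hn : 4 ≤ n) {a b : F}
    (hab : ∀ z₁ z₂ : F, z₁ ^ 2 + a * z₁ * z₂ + b * z₂ ^ 2 = 0 → z₁ = 0 ∧ z₂ = 0)
    (e : S ≃* POmega F (quadFormMinus (n - 1) F a b)) :
    Real (.ominus n (Fintype.card F)) S ∧ N2 (.ominus n (Fintype.card F)) (Nat.card S) := by
  obtain ⟨f, hf, hF⟩ := card_two F
  refine ⟨⟨F, inferInstance, inferInstance, a, b, rfl, hab, ⟨e⟩⟩, Or.inr ⟨.DD n, 2, f, ?_, ?_⟩⟩
  · rw [hF]; exact .ominus n 2 f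
  · rw [Nat.card_congr e.toEquiv]; exact ominus_real Nat.prime_two hf hF hn hab

theorem nam_alt {n : ℕ} (hn : 5 ≤ n) (e : S ≃* ↥(alternatingGroup (Fin n))) :
    Real (.alt n) S ∧ N2 (.alt n) (Nat.card S) :=
  ⟨⟨e⟩, Or.inl ⟨n, rfl, hn, (alt_card hn e).symm⟩⟩

end Nam

/-! ### `PSp_2 = PSL_2` and small groups -/

section Small

variable (F : Type) [Field F]

/-- `Sp_2 = SL_2` -/
def spTwo : Matrix.symplecticGroup (Fin 1) F ≃* Matrix.SpecialLinearGroup (Fin 2) F where
  toFun A := ⟨Matrix.reindex finSumFinEquiv finSumFinEquiv (A : Matrix (Fin 1 ⊕ Fin 1) (Fin 1 ⊕ Fin 1) F), by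
    rw [Matrix.det_reindex_self]
    exact (S0244.result _).1 A.2⟩
  invFun A := ⟨Matrix.reindex finSumFinEquiv.symm finSumFinEquiv.symm (A : Matrix (Fin 2) (Fin 2) F), by
    rw [S0244.result, Matrix.det_reindex_self]
    exact A.2⟩
  left_inv A := by
    apply Subtype.ext
    ext i j
    simp
  right_inv A := by
    apply Subtype.ext
    ext i j
    simp
  map_mul' A B := by
    apply Subtype.ext
    change Matrix.reindex finSumFinEquiv finSumFinEquiv (A.1 * B.1) =
      Matrix.reindex finSumFinEquiv finSumFinEquiv A.1 * Matrix.reindex finSumFinEquiv finSumFinEquiv B.1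
    rw [Matrix.reindex_apply, Matrix.reindex_apply, Matrix.reindex_apply, Matrix.submatrix_mul_equiv]

/-- `PSp_2 = PSL_2` -/
def pspOne : PSp 1 F ≃* Matrix.ProjectiveSpecialLinearGroup (Fin 2) F :=
  LieClassical.FieldTransfer.centralQuotientCongr (spTwo F)

variable [Fintype F] [CharP F 2]

theorem card_ge_four (h : Fintype.card F ≠ 2) : 4 ≤ Fintype.card F := by
  obtain ⟨f, hf, hF⟩ := card_two F
  rw [hF] at h ⊢
  rcases Nat.lt_or_ge f 2 with h1 | h1
  · have h2 : f = 1 := by omega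
    rw [h2] at h
    exact absurd (pow_one 2) h
  · calc 4 = 2 ^ 2 := by norm_num
      _ ≤ 2 ^ f := Nat.pow_le_pow_right (by norm_num) h1

theorem psl_two_solvable (h : Fintype.card F = 2) : Group.IsSolvable (Matrix.ProjectiveSpecialLinearGroup (Fin 2) F) := by
  obtain ⟨e⟩ := S0250.result h
  have h1 : Nat.card (Matrix.SpecialLinearGroup (Fin 2) F) = 6 := by
    rw [Nat.card_congr e.toEquiv, Nat.card_perm, Nat.card_fin]
    rfl
  have hfin : Finite (Matrix.SpecialLinearGroup (Fin 2) F) := inferInstance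
  have h2 : Group.IsSolvable (Matrix.SpecialLinearGroup (Fin 2) F) := BpAlt.solvable_of_lt 6 _ h1 (by norm_num)
  exact Group.isSolvable_of_surjective (QuotientGroup.mk'_surjective _)

theorem psl_two_simple (h : Fintype.card F ≠ 2) : IsSimpleGroup (Matrix.ProjectiveSpecialLinearGroup (Fin 2) F) :=
  Matrix.ProjectiveSpecialLinearGroup.rank_two_simple (by
    have := card_ge_four F h
    rw [Nat.card_eq_fintype_card]; omega)

end Small

/-! ### the pairs -/

/-- The names of `K` and `A`. -/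
inductive Pr : Grp → Grp → Prop
  | lf (n q : ℕ) : Pr (.psl n (q ^ 2)) (.psl n q)
  | lu (n q : ℕ) (hn : 3 ≤ n) : Pr (.psl n (q ^ 2)) (.psu n q)
  | ls (n m q : ℕ) (hm : 2 ≤ m) (h : n = 2 * m ∨ n = 2 * m + 1) : Pr (.psl n q) (.psp m q)
  | lt (q : ℕ) : Pr (.psl 3 q) (.psl 2 q)
  | la (n : ℕ) (h : n = 4 ∨ n = 5) : Pr (.psl n 2) (.alt 6)
  | us (n m q : ℕ) (hm : 2 ≤ m) (h : n = 2 * m ∨ n = 2 * m + 1) : Pr (.psu n q) (.psp m q)
  | ut (q : ℕ) : Pr (.psu 3 q) (.psl 2 q)
  | ua (n : ℕ) (h : n = 4 ∨ n = 5) : Pr (.psu n 2) (.alt 6)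
  | sf (m q : ℕ) (hm : 3 ≤ m) : Pr (.psp m (q ^ 2)) (.psp m q)
  | ps (m q : ℕ) (hm : 3 ≤ m) : Pr (.oplus (m + 1) q) (.psp m q)
  | pp (m q : ℕ) (hm : 4 ≤ m) : Pr (.oplus m (q ^ 2)) (.oplus m q)
  | pm (m q : ℕ) (hm : 4 ≤ m) : Pr (.oplus m (q ^ 2)) (.ominus m q)
  | ms (m q : ℕ) (hm : 3 ≤ m) : Pr (.ominus (m + 1) q) (.psp m q)

/-- All components are named. -/
def Out (K : Type u) [Group K] (g : Grp) : Prop :=
  ∀ (x : MulAut K), x * x = 1 → x ≠ 1 → ∀ A : Subgroup ↥(fixedSubgroup x), IsComponent A →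
    ∃ h, Pr g h ∧ Real h ↥A ∧ N2 h (Nat.card ↥A)

section Psp

variable {K : Type u} [Group K] {x : MulAut K} {A : Subgroup ↥(fixedSubgroup x)}

/-- components of `Core x (PSp m F)` -/
theorem of_core_psp (F : Type) [Field F] [Fintype F] [CharP F 2] {m : ℕ} (hm : 1 ≤ m) (hc : Core x (PSp m F))
    (hA : IsComponent A) :
    (2 ≤ m ∧ Real (.psp m (Fintype.card F)) ↥A ∧ N2 (.psp m (Fintype.card F)) (Nat.card ↥A)) ∨
    (m = 1 ∧ Real (.psl 2 (Fintype.card F)) ↥A ∧ N2 (.psl 2 (Fintype.card F)) (Nat.card ↥A)) ∨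
    (m = 2 ∧ Fintype.card F = 2 ∧ Real (.alt 6) ↥A ∧ N2 (.alt 6) (Nat.card ↥A)) := by
  rcases Nat.lt_or_ge m 2 with h | h
  · obtain rfl : m = 1 := by omega
    right; left
    have hc' := Core.congr (pspOne F).symm hc
    by_cases h2 : Fintype.card F = 2
    · exact (no_comp_of_solvable hc' (psl_two_solvable F h2) hA).elim
    · have := psl_two_simple F h2
      obtain ⟨e⟩ := hc'.comp hA
      exact ⟨rfl, nam_psl F le_rfl (fun _ => card_ge_four F h2) e⟩
  · by_cases h2 : m = 2 ∧ Fintype.card F = 2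
    · right; right
      obtain ⟨rfl, h2⟩ := h2
      obtain ⟨e0⟩ := S0247.result h2
      have e1 : Equiv.Perm (Fin 6) ≃* PSp 2 F := e0.symm.trans (SpCen.spEquiv 2)
      have hc' := (Core.congr e1 hc).sub (alternatingGroup (Fin 6)) (by
        rw [commutator_def, commutator_le]
        intro a _ b _
        rw [Equiv.Perm.mem_alternatingGroup, commutatorElement_def]
        simp only [Equiv.Perm.sign_mul, Equiv.Perm.sign_inv]
        rcases Int.units_eq_one_or (Equiv.Perm.sign a) with h | h <;>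
          rcases Int.units_eq_one_or (Equiv.Perm.sign b) with h' | h' <;> rw [h, h'] <;> decide)
      have hs : IsSimpleGroup ↥(alternatingGroup (Fin 6)) :=
        alternatingGroup.isSimpleGroup (by rw [Nat.card_fin]; omega)
      obtain ⟨e⟩ := hc'.comp hA
      exact ⟨rfl, h2, nam_alt (by norm_num) e⟩
    · left
      have h3 : m = 2 → 3 ≤ Fintype.card F := by
        intro h3
        have := card_ge_four F (fun h4 => h2 ⟨h3, h4⟩)
        omega
      have hs := S0270.result (F := F) m h h3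
      obtain ⟨e⟩ := hc.comp hA
      exact ⟨h, nam_psp F h h3 e⟩

end Psp

/-! ### the rows -/

theorem hna_of_comp {K : Type u} [Group K] {x : MulAut K} {A : Subgroup ↥(fixedSubgroup x)} (hA : IsComponent A) :
    ¬ IsMulCommutative K := by
  intro h
  have h1 : Group.IsSolvable ↥A := Group.isSolvable_of_comm fun a b =>
    Subtype.ext (Subtype.ext (h.is_comm.comm ((a : ↥(fixedSubgroup x)) : K) ((b : ↥(fixedSubgroup x)) : K)))
  exact SignalizersComponents.Components.quasisimple_not_isSolvable hA.2 h1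

section Row

variable {F : Type} [Field F] [Fintype F] [CharP F 2]

theorem char_of_card {F₀ : Type} [Field F₀] [Fintype F₀] {k : ℕ} (hk : k ≠ 0) (h : Fintype.card F = Fintype.card F₀ ^ k) :
    CharP F₀ 2 := by
  obtain ⟨f, hf, hF⟩ := card_two F
  obtain ⟨p, hp⟩ := CharP.exists F₀
  have : Fact p.Prime := ⟨CharP.char_is_prime F₀ p⟩
  obtain ⟨n, hp', hn⟩ := FiniteField.card F₀ p
  have h1 : p ∣ 2 ^ f := by
    rw [← hF, h, hn, ← pow_mul]
    exact dvd_pow_self p (Nat.mul_ne_zero n.pos.ne' hk)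
  have h2 : p = 2 := (Nat.prime_dvd_prime_iff_eq hp' Nat.prime_two).1 (hp'.dvd_of_dvd_pow h1)
  rwa [h2] at hp

theorem row_psl {n : ℕ} (hn : 2 ≤ n) (hn2 : n = 2 → 4 ≤ Fintype.card F) :
    Out (Matrix.ProjectiveSpecialLinearGroup (Fin n) F) (.psl n (Fintype.card F)) := by
  intro x hx hx1 A hA
  have hs : IsSimpleGroup (Matrix.ProjectiveSpecialLinearGroup (Fin n) F) := by
    rcases Nat.lt_or_ge n 3 with h | h
    · obtain rfl : n = 2 := by omega
      exact psl_two_simple F (by have := hn2 rfl; omega)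
    · exact S0249.result n h
  have hfin : Finite (Matrix.ProjectiveSpecialLinearGroup (Fin n) F) :=
    Finite.of_surjective _ (QuotientGroup.mk'_surjective _)
  have hK : IsChevSimple 2 (Matrix.ProjectiveSpecialLinearGroup (Fin n) F) := by
    have : IsPSLChar 2 (Matrix.ProjectiveSpecialLinearGroup (Fin n) F) :=
      ⟨F, inferInstance, inferInstance, inferInstance, n, hn, hn2, ⟨MulEquiv.refl _⟩⟩
    unfold IsChevSimple IsLieTypeChar
    tauto
  have hno : ((∃ y, x = MulAut.conj y) ∨ Cen x) → False := no_comp (hna_of_comp hA) hK hx hx1 hA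
  rcases PslTwo.out hn (by rw [pow_two, hx]) hx1 with ⟨y, hy⟩ | h | ⟨F₀, i1, i2, hc, h⟩ | ⟨h3, q, hc, h⟩ | ⟨h3, m, hm, h⟩
  · exact (hno (Or.inl ⟨y, hy.symm⟩)).elim
  · exact (hno (Or.inr h)).elim
  · have : CharP F₀ 2 := char_of_card two_ne_zero hc
    rw [hc]
    refine ⟨_, .lf n (Fintype.card F₀), ?_⟩
    rcases Nat.lt_or_ge n 3 with h4 | h4
    · obtain rfl : n = 2 := by omega
      by_cases h2 : Fintype.card F₀ = 2
      · exact (no_comp_of_solvable h (psl_two_solvable F₀ h2) hA).elim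
      · have := psl_two_simple F₀ h2
        obtain ⟨e⟩ := h.comp hA
        exact nam_psl F₀ hn (fun _ => card_ge_four F₀ h2) e
    · have := S0249.result (F := F₀) n h4
      obtain ⟨e⟩ := h.comp hA
      exact nam_psl F₀ hn (fun h5 => by omega) e
  · rw [hc]
    refine ⟨_, .lu n q h3, ?_⟩
    by_cases h32 : n = 3 ∧ q = 2
    · obtain ⟨rfl, rfl⟩ := h32
      exact (no_comp_of_solvable h (S0282.result (F := F) (by rw [hc]; norm_num)).2 hA).elim
    · have := S0283.result hc n h3 h32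
      obtain ⟨e⟩ := h.comp hA
      exact nam_psu F hc h3 h32 e
  · rcases of_core_psp F (by omega) h hA with ⟨h2, h5⟩ | ⟨rfl, h5⟩ | ⟨rfl, h6, h5⟩
    · exact ⟨_, .ls n m _ h2 hm, h5⟩
    · obtain rfl : n = 3 := by omega
      exact ⟨_, .lt _, h5⟩
    · rw [h6]
      exact ⟨_, .la n (by omega), h5⟩

theorem row_psu {n q : ℕ} (hF : Fintype.card F = q ^ 2) (hn : 3 ≤ n) (h32 : ¬ (n = 3 ∧ q = 2)) :
    Out (PSU n F q) (.psu n q) := by
  intro x hx hx1 A hA
  have hs : IsSimpleGroup (PSU n F q) := S0283.result hF n hn h32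
  have hfin : Finite (PSU n F q) := Finite.of_surjective _ (QuotientGroup.mk'_surjective _)
  have hK : IsChevSimple 2 (PSU n F q) := by
    have : IsPSUChar 2 (PSU n F q) :=
      ⟨F, inferInstance, inferInstance, inferInstance, n, q, hF, hn, h32, ⟨MulEquiv.refl _⟩⟩
    unfold IsChevSimple IsLieTypeChar
    tauto
  have hno : ((∃ y, x = MulAut.conj y) ∨ Cen x) → False := no_comp (hna_of_comp hA) hK hx hx1 hA
  rcases PsuTwo.out hF hn h32 (by rw [pow_two, hx]) hx1 with ⟨y, hy⟩ | h | ⟨m, hm, F₀, i1, i2, hc, h⟩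
  · exact (hno (Or.inl ⟨y, hy.symm⟩)).elim
  · exact (hno (Or.inr h)).elim
  · have : CharP F₀ 2 := char_of_card (F := F) two_ne_zero (by rw [hF, hc])
    subst hc
    rcases of_core_psp F₀ (by omega) h hA with ⟨h2, h5⟩ | ⟨rfl, h5⟩ | ⟨rfl, h6, h5⟩
    · exact ⟨_, .us n m _ h2 hm, h5⟩
    · obtain rfl : n = 3 := by omega
      exact ⟨_, .ut _, h5⟩
    · refine ⟨.alt 6, ?_, h5⟩
      have h7 : Pr (.psu n 2) (.alt 6) := .ua n (by omega)
      rwa [← h6] at h7

theorem row_psp {m : ℕ} (hm : 3 ≤ m) : Out (PSp m F) (.psp m (Fintype.card F)) := by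
  intro x hx hx1 A hA
  have hs : IsSimpleGroup (PSp m F) := S0270.result m (by omega) (fun h => by omega)
  have hfin : Finite (PSp m F) := Finite.of_surjective _ (QuotientGroup.mk'_surjective _)
  have hK : IsChevSimple 2 (PSp m F) := by
    have : IsPSpChar 2 (PSp m F) :=
      ⟨F, inferInstance, inferInstance, inferInstance, m, by omega, fun h => by omega, ⟨MulEquiv.refl _⟩⟩
    unfold IsChevSimple IsLieTypeChar
    tauto
  have hno : ((∃ y, x = MulAut.conj y) ∨ Cen x) → False := no_comp (hna_of_comp hA) hK hx hx1 hA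
  rcases PspTwo.out hm (by rw [pow_two, hx]) with ⟨y, hy⟩ | ⟨F₀, i1, i2, hc, h⟩
  · exact (hno (Or.inl ⟨y, hy.symm⟩)).elim
  · have : CharP F₀ 2 := char_of_card two_ne_zero hc
    have := S0270.result (F := F₀) m (by omega) (fun h => by omega)
    obtain ⟨e⟩ := h.comp hA
    rw [hc]
    exact ⟨_, .sf m _ hm, nam_psp F₀ (by omega) (fun h => by omega) e⟩

theorem row_plus {m : ℕ} (hm : 4 ≤ m) : Out (POmega F (quadFormPlus m F)) (.oplus m (Fintype.card F)) := by
  intro x hx hx1 A hA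
  have hs : IsSimpleGroup (POmega F (quadFormPlus m F)) := S0296.result m hm
  have hfin : Finite (POmega F (quadFormPlus m F)) := Finite.of_surjective _ (QuotientGroup.mk'_surjective _)
  have hK : IsChevSimple 2 (POmega F (quadFormPlus m F)) := by
    have : IsPOmegaPlusChar 2 (POmega F (quadFormPlus m F)) :=
      ⟨F, inferInstance, inferInstance, inferInstance, m, hm, ⟨MulEquiv.refl _⟩⟩
    unfold IsChevSimple IsLieTypeChar
    tauto
  have hno : ((∃ y, x = MulAut.conj y) ∨ Cen x) → False := no_comp (hna_of_comp hA) hK hx hx1 hA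
  rcases OrthTwo.out_plus CharTwo.two_eq_zero hm hx with h | h | h | ⟨F₀, i1, i2, hc, h⟩
  · exact (hno (Or.inl h)).elim
  · exact (hno (Or.inr h)).elim
  · have := S0270.result (F := F) (m - 1) (by omega) (fun h => by omega)
    obtain ⟨e⟩ := h.comp hA
    obtain ⟨k, rfl⟩ : ∃ k, m = k + 1 := ⟨m - 1, by omega⟩
    exact ⟨_, .ps k _ (by omega), nam_psp F (by omega) (fun h => by omega) e⟩
  · have : Fintype F₀ := Fintype.ofFinite F₀
    rw [Nat.card_eq_fintype_card, Nat.card_eq_fintype_card] at hc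
    have : CharP F₀ 2 := char_of_card two_ne_zero hc
    rw [hc]
    rcases h with h | ⟨a, b, hab, h⟩
    · have := S0296.result (F := F₀) m hm
      obtain ⟨e⟩ := h.comp hA
      exact ⟨_, .pp m _ hm, nam_plus F₀ hm e⟩
    · have := S0297.result (F := F₀) m hm a b hab
      obtain ⟨e⟩ := h.comp hA
      exact ⟨_, .pm m _ hm, nam_minus F₀ hm hab e⟩

theorem row_minus {m : ℕ} (hm : 4 ≤ m) {a b : F}
    (hab : ∀ z₁ z₂ : F, z₁ ^ 2 + a * z₁ * z₂ + b * z₂ ^ 2 = 0 → z₁ = 0 ∧ z₂ = 0) :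
    Out (POmega F (quadFormMinus (m - 1) F a b)) (.ominus m (Fintype.card F)) := by
  intro x hx hx1 A hA
  have hs : IsSimpleGroup (POmega F (quadFormMinus (m - 1) F a b)) := S0297.result m hm a b hab
  have hfin : Finite (POmega F (quadFormMinus (m - 1) F a b)) := Finite.of_surjective _ (QuotientGroup.mk'_surjective _)
  have hK : IsChevSimple 2 (POmega F (quadFormMinus (m - 1) F a b)) := by
    have : IsPOmegaMinusChar 2 (POmega F (quadFormMinus (m - 1) F a b)) :=
      ⟨F, inferInstance, inferInstance, inferInstance, m, a, b, hm, hab, ⟨MulEquiv.refl _⟩⟩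
    unfold IsChevSimple IsLieTypeChar
    tauto
  have hno : ((∃ y, x = MulAut.conj y) ∨ Cen x) → False := no_comp (hna_of_comp hA) hK hx hx1 hA
  rcases OrthTwo.out_minus CharTwo.two_eq_zero hm hab hx with h | h | h
  · exact (hno (Or.inl h)).elim
  · exact (hno (Or.inr h)).elim
  · have := S0270.result (F := F) (m - 1) (by omega) (fun h => by omega)
    obtain ⟨e⟩ := h.comp hA
    obtain ⟨k, rfl⟩ : ∃ k, m = k + 1 := ⟨m - 1, by omega⟩
    exact ⟨_, .ms k _ (by omega), nam_psp F (by omega) (fun h => by omega) e⟩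

end Row

/-! ### transport -/

theorem real_tr {S : Type u} {T : Type v} [Group S] [Group T] (e : S ≃* T) {g h : Grp} (hp : Pr g h)
    (hr : Real h S) : Real h T := by
  cases hp <;> first
    | (obtain ⟨F, i1, i2, hc, ⟨f⟩⟩ := hr
       exact ⟨F, i1, i2, hc, ⟨e.symm.trans f⟩⟩)
    | (obtain ⟨f⟩ := hr
       exact ⟨e.symm.trans f⟩)
    | (obtain ⟨F, i1, i2, a, b, hc, hab, ⟨f⟩⟩ := hr
       exact ⟨F, i1, i2, a, b, hc, hab, ⟨e.symm.trans f⟩⟩)

theorem Out.congr {K : Type u} {K' : Type v} [Group K] [Group K'] (e : K ≃* K') {g : Grp} (h : Out K g) : Out K' g := by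
  intro x hx hx1 A hA
  obtain ⟨y, hy⟩ : ∃ y : MulAut K, y = (MulAut.congr e).symm x := ⟨_, rfl⟩
  have hxy : MulAut.congr e y = x := by rw [hy, MulEquiv.apply_symm_apply]
  subst hxy
  have h2 : y * y = 1 := by
    rw [← map_mul] at hx
    exact (MulAut.congr e).injective (by rw [hx, map_one])
  have h3 : y ≠ 1 := by
    rintro rfl
    exact hx1 (map_one _)
  have f := CpAut.fixEquiv e y
  obtain ⟨g', h4, h5, h6⟩ := h y h2 h3 (A.map f.symm.toMonoidHom)
    (SignalizersComponents.Components.isComponent_map_equiv f.symm hA)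
  have e' : ↥A ≃* ↥(A.map f.symm.toMonoidHom) := A.equivMapOfInjective f.symm.toMonoidHom f.symm.injective
  refine ⟨g', h4, real_tr e'.symm h4 h5, ?_⟩
  rw [Nat.card_congr e'.toEquiv]
  exact h6

end Cfsg.Agent.H292.Rows
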