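import Mathlib
import Cfsg.Agent.H829.ExcComp
import Cfsg.Agent.H902.Compare
import Cfsg.Agent.OrdDiv.Table

/-!
# Names of the components, exceptional groups of characteristic two (helper292)

`pair_nam` : the second member `A` of an `H829.ExcComp.Pair` has an exceptional name, or is `PSU_3(3)` or the Tits
group.
-/

set_option autoImplicit false

namespace Cfsg.Agent.H292.NamExc

open Subgroup Cfsg Cfsg.Lie Cfsg.Agent.OrdDiv Cfsg.Agent.H902 Cfsg.Agent.H902.Names Cfsg.Agent.H829.ExcComp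

universe u v

/-- the exceptional names and `PSU_3(3)` -/
inductive ExN : Grp → Prop
  | g2 (q : ℕ) : ExN (.g2 q)
  | f4 (q : ℕ) : ExN (.f4 q)
  | e6 (q : ℕ) : ExN (.e6 q)
  | e7 (q : ℕ) : ExN (.e7 q)
  | e8 (q : ℕ) : ExN (.e8 q)
  | te6 (q : ℕ) : ExN (.te6 q)
  | td4 (q : ℕ) : ExN (.td4 q)
  | tf4 (q : ℕ) : ExN (.tf4 q)
  | u33 : ExN (.psu 3 3)

section

variable {S : Type u} [Group S] (F : Type) [Field F] [Fintype F]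

theorem n_g2 (h3 : 3 ≤ Fintype.card F) (e : S ≃* ↥(chevG2.group F)) : N2 (.g2 (Fintype.card F)) (Nat.card S) := by
  obtain ⟨p, f, hp, hf, hF⟩ := exists_pp F
  rw [hF] at h3 ⊢
  refine Or.inr ⟨.G2, p, f, .g2 p f, hp, hf, h3, ?_⟩
  rw [Nat.card_congr e.toEquiv, (table.{0}).g2 F, hF]
  change 1 * _ = (p ^ f) ^ 6 * (_ * _)
  ring

theorem n_f4 (e : S ≃* ↥(chevF4.group F)) : N2 (.f4 (Fintype.card F)) (Nat.card S) := by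
  obtain ⟨p, f, hp, hf, hF⟩ := exists_pp F
  rw [hF]
  refine Or.inr ⟨.F4, p, f, .f4 p f, hp, hf, trivial, ?_⟩
  rw [Nat.card_congr e.toEquiv, (table.{0}).f4 F _ hF]
  change 1 * _ = (p ^ f) ^ 24 * (_ * _ * _ * _)
  ring

theorem n_e6 (e : S ≃* ↥(chevE6.group F)) : N2 (.e6 (Fintype.card F)) (Nat.card S) := by
  obtain ⟨p, f, hp, hf, hF⟩ := exists_pp F
  rw [hF]
  refine Or.inr ⟨.E6, p, f, .e6 p f, hp, hf, trivial, ?_⟩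
  rw [Nat.card_congr e.toEquiv]
  change Nat.gcd 3 (p ^ f - 1) * _ = (p ^ f) ^ 36 * (_ * _ * _ * _ * _ * _)
  rw [(table.{0}).e6 F _ hF]
  ring

theorem n_e7 (e : S ≃* ↥(chevE7.group F)) : N2 (.e7 (Fintype.card F)) (Nat.card S) := by
  obtain ⟨p, f, hp, hf, hF⟩ := exists_pp F
  rw [hF]
  refine Or.inr ⟨.E7, p, f, .e7 p f, hp, hf, trivial, ?_⟩
  rw [Nat.card_congr e.toEquiv]
  change Nat.gcd 2 (p ^ f - 1) * _ = (p ^ f) ^ 63 * (_ * _ * _ * _ * _ * _ * _)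
  rw [(table.{0}).e7 F _ hF]
  ring

theorem n_e8 (e : S ≃* ↥(chevE8.group F)) : N2 (.e8 (Fintype.card F)) (Nat.card S) := by
  obtain ⟨p, f, hp, hf, hF⟩ := exists_pp F
  rw [hF]
  refine Or.inr ⟨.E8, p, f, .e8 p f, hp, hf, trivial, ?_⟩
  rw [Nat.card_congr e.toEquiv, (table.{0}).e8 F _ hF]
  change 1 * _ = (p ^ f) ^ 120 * (_ * _ * _ * _ * _ * _ * _ * _)
  ring

theorem q_pp {k q : ℕ} (hk : k ≠ 0) (h : Fintype.card F = q ^ k) : IsPrimePow q := by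
  have h1 : IsPrimePow (q ^ k) := h ▸ Fintype.isPrimePow_card_of_field
  exact (isPrimePow_pow_iff hk).1 h1

theorem n_te6 {q : ℕ} (hF : Fintype.card F = q ^ 2) (e : S ≃* ↥(twistedE6 F q)) : N2 (.te6 q) (Nat.card S) := by
  have hq := q_pp F two_ne_zero hF
  obtain ⟨p, f, hp, hf, rfl⟩ := (isPrimePow_nat_iff _).1 hq
  refine Or.inr ⟨.TE6, p, f, .te6 p f, hp, hf, trivial, ?_⟩
  rw [Nat.card_congr e.toEquiv]
  change Nat.gcd 3 (p ^ f + 1) * _ = (p ^ f) ^ 36 * (_ * _ * _ * _ * _ * _)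
  rw [(table.{0}).te6 F _ hq hF]
  ring

theorem n_td4 {q : ℕ} (hF : Fintype.card F = q ^ 3) (e : S ≃* ↥(twistedD4 F q)) : N2 (.td4 q) (Nat.card S) := by
  have hq := q_pp F three_ne_zero hF
  obtain ⟨p, f, hp, hf, rfl⟩ := (isPrimePow_nat_iff _).1 hq
  refine Or.inr ⟨.TD4, p, f, .td4 p f, hp, hf, trivial, ?_⟩
  rw [Nat.card_congr e.toEquiv, (table.{0}).td4 F _ hq hF]
  change 1 * _ = (p ^ f) ^ 12 * (_ * _ * _)
  ring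

theorem n_tf4 {m : ℕ} (hm : 1 ≤ m) (hF : Fintype.card F = 2 ^ (2 * m + 1)) (e : S ≃* ↥(twistedF4 F (2 ^ m))) :
    N2 (.tf4 (2 ^ (2 * m + 1))) (Nat.card S) := by
  refine Or.inr ⟨.TF4, 2, 2 * m + 1, .tf4 2 (2 * m + 1), Nat.prime_two, by omega,
    ⟨rfl, odd_two_mul_add_one m, by omega⟩, ?_⟩
  rw [Nat.card_congr e.toEquiv, (table.{0}).tf4 F m hm hF]
  change 1 * _ = (2 ^ (2 * m + 1)) ^ 12 * (_ * _ * _ * _)
  ring

end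

theorem pair_nam {K : Type u} {A : Type v} [Group K] [Group A] (h : Pair K A) :
    (∃ g, ExN g ∧ N2 g (Nat.card A)) ∨ Nat.card A = 17971200 := by
  rcases h with h | h | h | h | h
  · left
    obtain ⟨F, F₀, i1, i2, i3, i4, i5, i6, hc, h⟩ := h
    rcases h with ⟨h, -, ⟨b⟩⟩ | ⟨h, -, L, j1, j2, hL, ⟨b⟩⟩ | ⟨-, ⟨b⟩⟩ | ⟨-, ⟨b⟩⟩ | ⟨-, ⟨b⟩⟩ | ⟨-, ⟨b⟩⟩
    · exact ⟨_, .g2 _, n_g2 F₀ h b⟩
    · refine ⟨_, .u33, Or.inr ⟨.U 3, 3, 1, ?_, ?_⟩⟩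
      · exact .psu 3 3 1
      · rw [Nat.card_congr b.toEquiv]
        exact psu_real (p := 3) (f := 1) Nat.prime_three le_rfl hL le_rfl (by norm_num)
    · exact ⟨_, .f4 _, n_f4 F₀ b⟩
    · exact ⟨_, .e6 _, n_e6 F₀ b⟩
    · exact ⟨_, .e7 _, n_e7 F₀ b⟩
    · exact ⟨_, .e8 _, n_e8 F₀ b⟩
  · left
    obtain ⟨F, F₀, i1, i2, i3, i4, i5, i6, q, q₀, h1, h2, h3, h4, -, ⟨b⟩⟩ := h
    exact ⟨_, .td4 _, n_td4 F₀ h4 b⟩
  · obtain ⟨F, i1, i2, i3, m, h1, -, h2⟩ := h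
    rcases h2 with ⟨h2, ⟨b⟩⟩ | ⟨-, b⟩
    · exact Or.inl ⟨_, .tf4 _, n_tf4 F h2 h1 b⟩
    · exact Or.inr (NotCT.Orders.tits b)
  · left
    obtain ⟨F, i1, i2, i3, -, h2⟩ := h
    rcases h2 with ⟨q₀, h2, ⟨b⟩⟩ | ⟨⟨b⟩⟩
    · exact ⟨_, .te6 _, n_te6 F h2 b⟩
    · exact ⟨_, .f4 _, n_f4 F b⟩
  · left
    obtain ⟨F, F₀, i1, i2, i3, i4, i5, i6, q, h1, h2, -, ⟨b⟩⟩ := h
    exact ⟨_, .f4 _, n_f4 F₀ b⟩

end Cfsg.Agent.H292.NamExc
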