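import Mathlib
import Cfsg.Agent.H292.OrthTwo
import Cfsg.Agent.H292.Oct

/-!
# Elements of order eight in the orthogonal groups of characteristic two (helper292)
-/

set_option autoImplicit false

namespace Cfsg.Agent.H292.OctOrth

open Module Matrix QuadraticMap
open Cfsg (isometryGroup Omega POmega PSp fixedSubgroup)
open Cfsg.Agent.ClassicalGeometry.OrthCharTwo
open Cfsg.Agent.ClassicalGeometry.OrthDickson
open Cfsg.Agent.ClassicalGeometry.Reflection
open Cfsg.Agent.ClassicalGeometry.OrthSemi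
open Cfsg.Agent.LieClassical.OrthTrans
open Cfsg.Agent.LieClassical.OrthCore (Nondeg)
open Cfsg.Agent.H198.OrthFrame
open Cfsg.Agent.H80 Cfsg.Agent.H198.Carriers
open Cfsg.Agent.H292.OrthTwo Cfsg.Agent.H292.OrthVec Cfsg.Agent.H292.Oct

universe u

variable {ι : Type} [Fintype ι] [DecidableEq ι] {F : Type u} [Field F] {Q : QuadraticForm F (ι → F)}

theorem exists_one [Finite F] (h2 : (2 : F) = 0) (hG : Good Q) : ∃ a, Q a = 1 := by
  have hne : ∃ v, Q v ≠ 0 := by
    by_contra hcon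
    push Not at hcon
    have := nonempty hG
    have hnt : Nontrivial (ι → F) := inferInstance
    obtain ⟨v, hv⟩ := exists_ne (0 : ι → F)
    apply hv
    refine hG.nondeg v fun w => ?_
    change Q (v + w) - Q v - Q w = 0
    rw [hcon, hcon, hcon]
    ring
  obtain ⟨v, hv⟩ := hne
  obtain ⟨c, hc⟩ := exists_sq_two h2 (Q v)⁻¹
  refine ⟨c • v, ?_⟩
  rw [QuadraticMap.map_smul, smul_eq_mul, hc, inv_mul_cancel₀ hv]

theorem eight_good [Finite F] (h2 : (2 : F) = 0) (hG : Good Q) {n : ℕ} (hn3 : 3 ≤ n)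
    (hn : Fintype.card ι = 2 * n + 2) : Eight (POmega F ⇑Q) := by
  have := nonempty hG
  have : CharP F 2 := CharTwo.of_one_ne_zero_of_two_eq_zero one_ne_zero h2
  obtain ⟨a, ha⟩ := exists_one h2 hG
  obtain ⟨e⟩ := stab_equiv h2 (polar_nondeg hG) ha hn (by omega)
  have h8 : Eight ↥(T Q a) := (oct_sp (F := F) hn3).map e.symm.toMonoidHom e.symm.injective
  refine (h8.map (T Q a).subtype (T Q a).subtype_injective).map (QuotientGroup.mk' _) ?_
  intro s t hst
  exact mk_inj h2 hG hst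

theorem eight_plus [Finite F] (h2 : (2 : F) = 0) {m : ℕ} (hm : 4 ≤ m) : Eight (POmega F (Cfsg.quadFormPlus m F)) := by
  have hG : Good (plusQ m F) := good_plusQ (by omega)
  exact eight_good (Q := plusQ m F) h2 hG (n := m - 1) (by omega) (by simp; omega)

theorem eight_minus [Finite F] (h2 : (2 : F) = 0) {m : ℕ} (hm : 4 ≤ m) {a b : F}
    (hab : ∀ z₁ z₂ : F, z₁ ^ 2 + a * z₁ * z₂ + b * z₂ ^ 2 = 0 → z₁ = 0 ∧ z₂ = 0) :
    Eight (POmega F (Cfsg.quadFormMinus (m - 1) F a b)) := by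
  have hG : Good (minusQ (m - 1) F a b) := good_minusQ (by omega) hab
  exact eight_good (Q := minusQ (m - 1) F a b) h2 hG (n := m - 1) (by omega) (by simp; omega)

end Cfsg.Agent.H292.OctOrth
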