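import Mathlib
import Cfsg.Agent.H292.Master
import Cfsg.Agent.H287.OutFi24
import Cfsg.Agent.H287.InnTwo
import Cfsg.Agent.H287.FixInn

/-!
# Sporadic groups: no components `PSU_m(2^n)`, `PSp_2k(2^n)`, `PΩ^±_2k(2^n)` (helper292)

`no_spor` : every sporadic group and the Tits group, except the Baby Monster.
-/

set_option autoImplicit false
set_option linter.unusedSectionVars false

namespace Cfsg.Agent.H292.Master

open Subgroup Cfsg Cfsg.Agent.OrdDiv Cfsg.Agent.H902 Cfsg.Agent.H902.Names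

universe u v

/-- boolean version of `Big` -/
def bigB : Grp → Bool
  | .psu m q => Nat.ble 6 m && q % 2 == 0 && !(m == 6 && q == 2)
  | .psp k q => Nat.ble 3 k && q % 2 == 0 && !(k == 3 && q == 2)
  | .oplus k q => Nat.ble 4 k && q % 2 == 0 && !(k == 4 && q == 2)
  | .ominus k q => Nat.ble 4 k && q % 2 == 0 && !(k == 4 && q == 2)
  | _ => false

theorem two_pow_mod {n : ℕ} (hn : 1 ≤ n) : 2 ^ n % 2 = 0 :=
  Nat.mod_eq_zero_of_dvd (dvd_pow_self 2 (by omega))

theorem two_pow_eq {n : ℕ} (h : 2 ^ n = 2) : n = 1 := by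
  have : (2 : ℕ) ^ n = 2 ^ 1 := by rw [h, pow_one]
  exact Nat.pow_right_injective le_rfl this

theorem bigB_of {e : Grp} (he : Big e) : bigB e = true := by
  cases he with
  | u m n hm hn hex =>
    have h1 := two_pow_mod hn
    have h2 : ¬ (m = 6 ∧ 2 ^ n = 2) := fun h => hex ⟨h.1, two_pow_eq h.2⟩
    simp [bigB, h1, hm]
    tauto
  | s m n hm hn hex =>
    have h1 := two_pow_mod hn
    have h2 : ¬ (m = 3 ∧ 2 ^ n = 2) := fun h => hex ⟨h.1, two_pow_eq h.2⟩
    simp [bigB, h1, hm]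
    tauto
  | p m n hm hn hex =>
    have h1 := two_pow_mod hn
    have h2 : ¬ (m = 4 ∧ 2 ^ n = 2) := fun h => hex ⟨h.1, two_pow_eq h.2⟩
    simp [bigB, h1, hm]
    tauto
  | m m n hm hn hex =>
    have h1 := two_pow_mod hn
    have h2 : ¬ (m = 4 ∧ 2 ^ n = 2) := fun h => hex ⟨h.1, two_pow_eq h.2⟩
    simp [bigB, h1, hm]
    tauto

theorem mem_of_big {S : Type u} [Group S] {e : Grp} (he : Big e) (hr : OrdDiv.Real e S) {l : List (ℕ × ℕ)} {N : ℕ}
    (hv : valid l N = true) (hd : Nat.card S ∣ N) : e ∈ cands l N ∧ Nat.card S = ordN e := by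
  cases he with
  | u m n hm hn hex =>
    obtain ⟨F, i1, i2, hF, ⟨f⟩⟩ := hr
    rw [Nat.card_congr f.toEquiv] at hd
    obtain ⟨h1, h2⟩ := psu_mem hv hF (by omega) (by omega) hd
    exact ⟨mem_cands 3 (List.mem_map.2 ⟨_, h1, rfl⟩), (Nat.card_congr f.toEquiv).trans h2⟩
  | s k n hk hn hex =>
    obtain ⟨F, i1, i2, hF, ⟨f⟩⟩ := hr
    rw [Nat.card_congr f.toEquiv] at hd
    obtain ⟨h1, h2⟩ := psp_mem hv (F := F) (by omega) (by omega) hd
    rw [hF] at h1 h2
    exact ⟨mem_cands 2 (List.mem_map.2 ⟨_, h1, rfl⟩), (Nat.card_congr f.toEquiv).trans h2⟩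
  | p k n hk hn hex =>
    obtain ⟨F, i1, i2, hF, ⟨f⟩⟩ := hr
    rw [Nat.card_congr f.toEquiv] at hd
    obtain ⟨h1, h2⟩ := oplus_mem hv (F := F) hk hd
    rw [hF] at h1 h2
    exact ⟨mem_cands 5 (List.mem_map.2 ⟨_, h1, rfl⟩), (Nat.card_congr f.toEquiv).trans h2⟩
  | m k n hk hn hex =>
    obtain ⟨F, i1, i2, a, b, hF, hab, ⟨f⟩⟩ := hr
    rw [Nat.card_congr f.toEquiv] at hd
    obtain ⟨h1, h2⟩ := ominus_mem hv (F := F) hk hab hd
    rw [hF] at h1 h2
    exact ⟨mem_cands 6 (List.mem_map.2 ⟨_, h1, rfl⟩), (Nat.card_congr f.toEquiv).trans h2⟩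

/-- numerical check -/
def bad (x : Grp × ℕ) (g : Grp) : Bool :=
  match x.1 with
  | .b => true
  | .m => ordN g != 4154781481226426191177580544000000
  | .fi23 => ordN g != 64561751654400 && ordN g != 9196830720
  | .fi24 => ordN g != 64561751654400 && ordN g != 9196830720 && ordN g != 4089470473293004800
  | _ => false

theorem spor_check : ∀ x ∈ spor, ∀ g ∈ cands (Spec.fac x.2) x.2, bigB g = true → bad x g = true := by decide +kernel

variable {X : Type u} [Group X] [Finite X] [IsSimpleGroup X] {x : MulAut X} {A : Subgroup ↥(fixedSubgroup x)} {e : Grp}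

/-- the row of a sporadic group -/
theorem no_spor (hna : ¬ IsMulCommutative X) (he : Big e) (hr : OrdDiv.Real e (↥A ⧸ center ↥A))
    (hA : IsComponent A) (hx : x * x = 1) (hx1 : x ≠ 1) (hb : ¬ Spor.IsoB X) {y : Grp × ℕ} (hy : y ∈ spor)
    (hX : OrdDiv.Real y.1 X) : False := by
  have hox : orderOf x = 2 := orderOf_eq_prime (by rw [pow_two, hx]) hx1
  have hc := table.spor X y hy hX
  have hd : Nat.card (↥A ⧸ center ↥A) ∣ y.2 := by
    rw [← hc]
    exact ((card_quotient_dvd_card _).trans (card_subgroup_dvd_card _)).trans (card_subgroup_dvd_card _)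
  obtain ⟨h1, h2⟩ := mem_of_big he hr (Spec.spor_valid y hy) hd
  have h3 := spor_check y hy e h1 (bigB_of he)
  have hz : center X = ⊥ := CpAut.center_eq_bot_of_simple hna
  have hcen : ∀ {S : ℕ → ℕ → Prop}, H287.FixCard S X → S (Nat.card ↥A) (ordN e) := by
    intro S h
    rw [← h2]
    exact h x hox A hA
  unfold bad at h3
  split at h3
  · rename_i h4
    rw [h4] at hX
    exact hb hX
  · rename_i h4
    rw [h4] at hX
    have h5 := (hcen (H287.fix_m hX)).2
    simp [h5] at h3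
  · rename_i h4
    rw [h4] at hX
    have h5 := hcen (H287.fix_fi23 hX)
    rcases h5 with h5 | h5
    · simp [h5.2] at h3
    · simp [h5.1] at h3
  · rename_i h4
    rw [h4] at hX
    have h5 := hcen (H287.FixCard.mk (S := fun n m => m = 64561751654400 ∨ m = 4089470473293004800 ∨ m = 9196830720) hz
      (fun t ht K hK => Or.inl (H287.compCard_fi24 hX t ht K hK).2)
      ((H287.OutFi24.outCard hX).mono fun n m h => by rcases h with h | h <;> simp [h.2]))
    rcases h5 with h5 | h5 | h5 <;> simp [h5] at h3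
  · cases h3

end Cfsg.Agent.H292.Master
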