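import Mathlib
import Cfsg.Agent.S0000
import Cfsg.Agent.H292.SporBig
import Cfsg.Agent.H298.EO
import Cfsg.Agent.H283.BRow
import Cfsg.Agent.H340.ExcBaby
import Cfsg.Agent.H284.StdRed
import Cfsg.Agent.ResEven.Congr

/-!
# Standard subgroups of type `PSU_m(2^n)`, `PSp_2k(2^n)`, `PΩ^±_2k(2^n)` (helper292)

`main` : `F*(G)` simple, `L` standard in `G`, `C_G(L)` with cyclic Sylow 2-subgroups, `L / O(L)` with a name `e` of type
`Big`: `F*(G)` has a name `g` with `Pr g e`.
-/

set_option autoImplicit false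
set_option linter.unusedSectionVars false

namespace Cfsg.Agent.H292.Master

open Subgroup Cfsg Cfsg.Agent.OrdDiv Cfsg.Agent.H902 Cfsg.Agent.H902.Names Cfsg.Agent.H292.NamExc
open Cfsg.Agent.H292.Rows

universe u v

/-- `Z(K) = O(K)` -/
theorem center_eq {K : Type u} [Group K] [Finite K] (hq : IsQuasisimple K) (he : Even (Nat.card K))
    (hs : IsSimpleGroup (K ⧸ oddCore K)) (hna : ¬ IsMulCommutative (K ⧸ oddCore K)) : center K = oddCore K := by
  have hn : (oddCore K).Normal := Lib.Cores.pPrimeCore_normal 2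
  have h1 := H284.StdRed.oddCore_le_center hq he
  have h2 := H284.StdRed.center_quot hq h1
  rw [CpAut.center_eq_bot_of_simple hna] at h2
  refine le_antisymm ?_ h1
  intro z hz
  have h3 : QuotientGroup.mk' (oddCore K) z ∈ (center K).map (QuotientGroup.mk' (oddCore K)) := ⟨z, hz, rfl⟩
  rw [← h2, mem_bot] at h3
  exact (QuotientGroup.eq_one_iff z).1 h3

/-- two commuting involutions in a group with cyclic Sylow 2-subgroups -/
theorem eq_of_cyclic {C : Type u} [Group C] [Finite C] (hR : ∀ R : Sylow 2 C, IsCyclic ↥(R : Subgroup C)) {a b : C}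
    (ha : orderOf a = 2) (hb : orderOf b = 2) (hab : a * b = b * a) : a = b := by
  have : Fact (Nat.Prime 2) := ⟨Nat.prime_two⟩
  by_contra hne
  have haa : a * a = 1 := by rw [← pow_two, ← ha, pow_orderOf_eq_one]
  have hbb : b * b = 1 := by rw [← pow_two, ← hb, pow_orderOf_eq_one]
  have ha1 : a ≠ 1 := by rintro rfl; rw [orderOf_one] at ha; omega
  have hb1 : b ≠ 1 := by rintro rfl; rw [orderOf_one] at hb; omega
  -- the four-group
  have hP : IsPGroup 2 ↥(closure ({a, b} : Set C)) := by
    have hcomm : ∀ y ∈ closure ({a, b} : Set C), ∀ z ∈ closure ({a, b} : Set C), y * z = z * y := by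
      have h1 : IsMulCommutative ↥(closure ({a, b} : Set C)) := by
        refine isMulCommutative_closure ?_
        intro y hy z hz
        rcases hy with rfl | hy <;> rcases hz with rfl | hz
        · rfl
        · rw [Set.mem_singleton_iff] at hz; subst hz; exact hab
        · rw [Set.mem_singleton_iff] at hy; subst hy; exact hab.symm
        · rw [Set.mem_singleton_iff] at hy hz; subst hy; subst hz; rfl
      intro y hy z hz
      exact congrArg Subtype.val (h1.is_comm.comm ⟨y, hy⟩ ⟨z, hz⟩)
    have hsq : ∀ y ∈ closure ({a, b} : Set C), y * y = 1 := by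
      intro y hy
      induction hy using closure_induction with
      | mem y hy =>
        rcases hy with rfl | hy
        · exact haa
        · rw [Set.mem_singleton_iff] at hy; subst hy; exact hbb
      | one => exact mul_one 1
      | mul y z hy hz ihy ihz =>
        rw [mul_assoc, ← mul_assoc z, ← hcomm y hy z hz, mul_assoc, ihz, mul_one, ihy]
      | inv y hy ihy => rw [← mul_inv_rev, ihy, inv_one]
    intro y
    exact ⟨1, Subtype.ext (by rw [pow_one, pow_two]; exact hsq y y.2)⟩
  obtain ⟨R, hR'⟩ := hP.exists_le_sylow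
  have haR : a ∈ (R : Subgroup C) := hR' (subset_closure (Set.mem_insert _ _))
  have hbR : b ∈ (R : Subgroup C) := hR' (subset_closure (Set.mem_insert_of_mem _ rfl))
  have := hR R
  classical
  have hfin : Fintype ↥(R : Subgroup C) := Fintype.ofFinite _
  have h2 := IsCyclic.card_pow_eq_one_le (α := ↥(R : Subgroup C)) (n := 2) (by norm_num)
  have h3 : ({1, ⟨a, haR⟩, ⟨b, hbR⟩} : Finset ↥(R : Subgroup C)) ⊆ Finset.univ.filter fun y => y ^ 2 = 1 := by
    intro y hy
    rw [Finset.mem_insert, Finset.mem_insert, Finset.mem_singleton] at hy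
    rw [Finset.mem_filter]
    refine ⟨Finset.mem_univ _, ?_⟩
    rcases hy with rfl | rfl | rfl
    · exact one_pow 2
    · exact Subtype.ext (by rw [pow_two]; exact haa)
    · exact Subtype.ext (by rw [pow_two]; exact hbb)
  have h4 := Finset.card_le_card h3
  rw [Finset.card_insert_of_notMem, Finset.card_insert_of_notMem, Finset.card_singleton] at h4
  · omega
  · rw [Finset.mem_singleton]
    exact fun h => hne (congrArg Subtype.val h)
  · rw [Finset.mem_insert, Finset.mem_singleton]
    rintro (h | h)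
    · exact ha1 (congrArg Subtype.val h).symm
    · exact hb1 (congrArg Subtype.val h).symm

theorem n2_baby : N2 (.te6 2) 76532479683774853939200 := by
  obtain ⟨K, i1, i2, hK⟩ : ∃ (K : Type) (_ : Field K) (_ : Fintype K), Fintype.card K = 4 :=
    ⟨GaloisField 2 2, inferInstance, Fintype.ofFinite _, by
      have := Fintype.ofFinite (GaloisField 2 2)
      rw [Fintype.card_eq_nat_card]
      exact GaloisField.card 2 2 (by norm_num)⟩
  have h := n_te6 (S := ↥(Lie.twistedE6 K 2)) K (q := 2) (by rw [hK]; norm_num) (MulEquiv.refl _)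
  rwa [Cfsg.Agent.BM.HBFinal.card_E K hK] at h

theorem exists_spor {X : Type u} [Group X] (h : IsSporadicGroup X) : ∃ y ∈ spor, OrdDiv.Real y.1 X := by
  have key : ∀ g : Grp, g ∈ spor.map (fun x => x.1) → OrdDiv.Real g X → ∃ y ∈ spor, OrdDiv.Real y.1 X := by
    intro g hg hr
    obtain ⟨x, hx, rfl⟩ := List.mem_map.1 hg
    exact ⟨x, hx, hr⟩
  rcases h with h | h | h | h | h | h | h | h | h | h | h | h | h | h | h | h | h | h | h | h | h | h | h | h | h | h
  · exact key .m11 (by decide) h
  · exact key .m12 (by decide) h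
  · exact key .m22 (by decide) h
  · exact key .m23 (by decide) h
  · exact key .m24 (by decide) h
  · exact key .j1 (by decide) h
  · exact key .j2 (by decide) h
  · exact key .j3 (by decide) h
  · exact key .j4 (by decide) h
  · exact key .co1 (by decide) h
  · exact key .co2 (by decide) h
  · exact key .co3 (by decide) h
  · exact key .mcl (by decide) h
  · exact key .hs (by decide) h
  · exact key .suz (by decide) h
  · exact key .he (by decide) h
  · exact key .ru (by decide) h
  · exact key .on (by decide) h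
  · exact key .ly (by decide) h
  · exact key .fi22 (by decide) h
  · exact key .fi23 (by decide) h
  · exact key .fi24 (by decide) h
  · exact key .hn (by decide) h
  · exact key .th (by decide) h
  · exact key .b (by decide) h
  · exact key .m (by decide) h

theorem real_of_big {S : Type u} {T : Type v} [Group S] [Group T] {e : Grp} (he : Big e) (f : S ≃* T)
    (hr : OrdDiv.Real e S) : OrdDiv.Real e T := by
  cases he with
  | u m n hm hn hex =>
    obtain ⟨F, i1, i2, hF, ⟨g⟩⟩ := hr
    exact ⟨F, i1, i2, hF, ⟨f.symm.trans g⟩⟩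
  | s k n hk hn hex =>
    obtain ⟨F, i1, i2, hF, ⟨g⟩⟩ := hr
    exact ⟨F, i1, i2, hF, ⟨f.symm.trans g⟩⟩
  | p k n hk hn hex =>
    obtain ⟨F, i1, i2, hF, ⟨g⟩⟩ := hr
    exact ⟨F, i1, i2, hF, ⟨f.symm.trans g⟩⟩
  | m k n hk hn hex =>
    obtain ⟨F, i1, i2, a, b, hF, hab, ⟨g⟩⟩ := hr
    exact ⟨F, i1, i2, a, b, hF, hab, ⟨f.symm.trans g⟩⟩

theorem big2 {S : Type u} [Group S] {e : Grp} (he : Big e) (hr : OrdDiv.Real e S) : H298.EO.Big2 S := by
  have hch : ∀ (F : Type) [Field F] [Fintype F] (k : ℕ), 1 ≤ k → Fintype.card F = 2 ^ k → CharP F 2 := by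
    intro F _ _ k hk hc
    obtain ⟨p, hp⟩ := CharP.exists F
    have : Fact p.Prime := ⟨CharP.char_is_prime F p⟩
    obtain ⟨n, hp', hn⟩ := FiniteField.card F p
    rw [eq_two hk hp' (hc.symm.trans hn)] at hp
    exact hp
  cases he with
  | u m n hm hn hex =>
    obtain ⟨F, i1, i2, hF, f⟩ := hr
    have := hch F (n * 2) (by omega) (by rw [hF, pow_mul])
    exact Or.inr (Or.inr (Or.inl ⟨F, i1, i2, this, m, 2 ^ n, hm, hF, f⟩))
  | s k n hk hn hex =>
    obtain ⟨F, i1, i2, hF, f⟩ := hr
    have := hch F n hn hF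
    exact Or.inr (Or.inl ⟨F, i1, i2, this, k, hk, f⟩)
  | p k n hk hn hex =>
    obtain ⟨F, i1, i2, hF, f⟩ := hr
    have := hch F n hn hF
    exact Or.inr (Or.inr (Or.inr ⟨F, i1, i2, this, k, hk, Or.inl f⟩))
  | m k n hk hn hex =>
    obtain ⟨F, i1, i2, a, b, hF, hab, f⟩ := hr
    have := hch F n hn hF
    exact Or.inr (Or.inr (Or.inr ⟨F, i1, i2, this, k, hk, Or.inr ⟨a, b, hab, f⟩⟩))

section Std

variable {G : Type u} [Group G] [Finite G] (hF : IsSimpleGroup ↥(generalizedFittingSubgroup G))
  (hF' : ¬ IsMulCommutative ↥(generalizedFittingSubgroup G)) {L : Subgroup G} (hL : IsStandardSubgroup L)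
  (hR : ∀ R : Sylow 2 ↥(centralizer (L : Set G)), IsCyclic ↥(R : Subgroup ↥(centralizer (L : Set G))))
  {e : Grp} (he : Big e)

include hF hF' hL hR he

/-- the Baby Monster -/
theorem no_b (hX : Spor.IsoB ↥(generalizedFittingSubgroup G)) (hN : N2 e (Nat.card (↥L ⧸ center ↥L))) : False := by
  have hFn : (generalizedFittingSubgroup G).Normal := Lib.GenFitting.genFitting_normal
  obtain ⟨-, hcF, t, htL, hto⟩ := H284.FStd.fstd hF hF' hL
  have htop := H340.ExcBaby.eq_top_of_inner hcF (H340.ExcBaby.inner hX)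
  let e0 : ↥(generalizedFittingSubgroup G) ≃* G := (MulEquiv.subgroupCongr htop).trans Subgroup.topEquiv
  obtain ⟨f⟩ := hX
  let φ : G ≃* Spor.BabyMonster := e0.symm.trans f
  have hLC : L ≤ centralizer ({t} : Set G) := by
    intro y hy
    rw [mem_centralizer_singleton_iff]
    exact mem_centralizer_iff.1 htL y hy
  have hcomp : IsComponentOf L (centralizer ({t} : Set G)) := ⟨hLC, (S1754.result L hL t hto htL).2⟩
  have h1 := H283.BRow.pack_model (φ t) (by rw [MulEquiv.orderOf_eq, hto]) _
    (ResEven.Congr.isComponentOf_of φ hcomp)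
  rcases h1 with h1 | ⟨-, -, -, -, -, d, hd, hdt, hc, hle⟩
  · have e1 := CTwoTab.quoEquiv (CTwoTab.subMap φ L)
    rw [← Nat.card_congr e1.toEquiv] at h1
    rw [h1] at hN
    have h2 := he.unique hN n2_baby
    rw [← h2] at he
    cases he
  · have hd' : orderOf (φ.symm d) = 2 := by rw [MulEquiv.orderOf_eq, hd]
    have hdL : φ.symm d ∈ centralizer (L : Set G) := by
      rw [mem_centralizer_iff]
      intro y hy
      apply φ.injective
      rw [map_mul, map_mul, φ.apply_symm_apply]
      exact mem_centralizer_singleton_iff.1 (hle ⟨y, hy, rfl⟩)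
    have h2 := eq_of_cyclic hR (a := ⟨t, htL⟩) (b := ⟨φ.symm d, hdL⟩) (by rw [Subgroup.orderOf_mk, hto])
      (by rw [Subgroup.orderOf_mk, hd']) (Subtype.ext (by
        apply φ.injective
        change φ (t * φ.symm d) = φ (φ.symm d * t)
        rw [map_mul, map_mul, φ.apply_symm_apply]
        exact hc))
    apply hdt
    have h3 : t = φ.symm d := congrArg Subtype.val h2
    rw [h3, φ.apply_symm_apply]

/-- **The master theorem.** -/
theorem main (hr : OrdDiv.Real e (↥L ⧸ oddCore ↥L)) (hN : N2 e (Nat.card (↥L ⧸ oddCore ↥L)))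
    (hs : IsSimpleGroup (↥L ⧸ oddCore ↥L)) (hna : ¬ IsMulCommutative (↥L ⧸ oddCore ↥L)) :
    ∃ g, Pr g e ∧ OrdDiv.Real g ↥(generalizedFittingSubgroup G) := by
  have hOn : (oddCore ↥L).Normal := Lib.Cores.pPrimeCore_normal 2
  have hev : Even (Nat.card ↥L) := by
    have h1 : Nat.card (↥L ⧸ oddCore ↥L) ∣ Nat.card ↥L := card_quotient_dvd_card _
    exact even_iff_two_dvd.2 (((dvd_pow_self 2 (by norm_num)).trans (he.nine hN)).trans h1)
  have hc := center_eq hL.1 hev hs hna
  have hodd : Odd (Nat.card ↥(center ↥L)) := by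
    rw [hc]
    exact Nat.coprime_two_right.1 (Lib.Cores.pPrimeCore_coprime (G := ↥L) 2)
  have q0 : ↥L ⧸ center ↥L ≃* ↥L ⧸ oddCore ↥L := QuotientGroup.quotientMulEquivOfEq hc
  obtain ⟨hLX, hcF, t, htL, hto⟩ := H284.FStd.fstd hF hF' hL
  have hFn : (generalizedFittingSubgroup G).Normal := Lib.GenFitting.genFitting_normal
  obtain ⟨hx, hx1, hA⟩ := H284.FStd.comp_fix hcF hL hLX hto htL
  have hAn := H298.EO.BB_normal (X := generalizedFittingSubgroup G) hL hto htL
  have eA := H284.FStd.BBequiv hLX htL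
  generalize H284.FStd.BB (generalizedFittingSubgroup G) L t = A at hA hAn eA
  have qA : ↥A ⧸ center ↥A ≃* ↥L ⧸ oddCore ↥L := (CTwoTab.quoEquiv eA).trans q0
  have hN' : N2 e (Nat.card (↥A ⧸ center ↥A)) := by
    rw [Nat.card_congr qA.toEquiv]
    exact hN
  have hr' := real_of_big he qA.symm hr
  have hodd' : Odd (Nat.card ↥(center ↥A)) := by
    rwa [Nat.card_congr (Subgroup.centerCongr eA).toEquiv]
  have hk : IsKnownSimple' ↥(generalizedFittingSubgroup G) := S0000.result
  rcases OddHalf.Known.classify hF' hk with h | ⟨p, hp, hp2, h⟩ | (h | h) | h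
  · exact (no_alt he hA hN' hx hx1 h).elim
  · exact (H298.EO.odd_row hp hp2 h _ hx A hA.2 hodd' (big2 he hr')).elim
  · have key : Cla ↥(generalizedFittingSubgroup G) → ∃ g, Pr g e ∧ OrdDiv.Real g ↥(generalizedFittingSubgroup G) :=
      fun h => row_cla hF' h he hA hN' hx hx1 (big_eight he hr')
    have key2 : (IsExceptionalChevChar 2 ↥(generalizedFittingSubgroup G) ∨
        IsTwistedE6D4Char 2 ↥(generalizedFittingSubgroup G) ∨ Lie.IsoSuzuki ↥(generalizedFittingSubgroup G) ∨
        Lie.Iso2F4 ↥(generalizedFittingSubgroup G)) → False := fun h => no_exc hF' h he hA hN' hx hx1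
    rcases h with h | h | h | h | h | h | h | h | h | h | h
    · exact key (Or.inl h)
    · exact key (Or.inr (Or.inr (Or.inl h)))
    · exact key (Or.inr (Or.inl h))
    · obtain ⟨F, i1, i2, i3, m, hm, ho, -⟩ := h
      exfalso
      have h3 := FiniteField.even_card_of_char_two (F := F) (by rw [ringChar.eq F 2])
      rw [Nat.odd_iff] at ho
      omega
    · exact key (Or.inr (Or.inr (Or.inr (Or.inl h))))
    · exact key (Or.inr (Or.inr (Or.inr (Or.inr h))))
    · exact (key2 (Or.inl h)).elim
    · exact (key2 (Or.inr (Or.inl h))).elim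
    · exact (key2 (Or.inr (Or.inr (Or.inl h.2)))).elim
    · exact (key2 (Or.inr (Or.inr (Or.inr h.2)))).elim
    · exact absurd h.1 (by norm_num)
  · have hb : ¬ Spor.IsoB ↥(generalizedFittingSubgroup G) := by
      intro hb
      exact no_b hF hF' hL hR he hb (by rw [Nat.card_congr q0.toEquiv]; exact hN)
    exact (no_spor hF' he hr' hA hx hx1 hb (y := (.tits, 17971200)) (by decide) h).elim
  · have hb : ¬ Spor.IsoB ↥(generalizedFittingSubgroup G) := by
      intro hb
      exact no_b hF hF' hL hR he hb (by rw [Nat.card_congr q0.toEquiv]; exact hN)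
    obtain ⟨y, hy, h⟩ := exists_spor h
    exact (no_spor hF' he hr' hA hx hx1 hb hy h).elim

end Std

end Cfsg.Agent.H292.Master
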