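import Mathlib
import Cfsg.Agent.H292.RowAll
import Cfsg.Agent.H291.LieTwo
import Cfsg.Agent.OddHalf.D7Out.TwChoice
import Cfsg.Agent.H523.FpfCyc
import Cfsg.Agent.LieRecognition.FieldSemilinear

/-!
# Four-groups of automorphisms with a common component: tools (helper292)

* `CompA z A` : the fixed points of `z` have a component isomorphic to `A`;
* `Tri A x y` : `⟨x, y⟩` is a four-group of automorphisms all of whose involutions satisfy `CompA`;
* `Bad X` : `Tri A x y` never holds; `Bad.congr`, `bad_of_cyc`, `bad_of_cycOut`, `bad_of_index`;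
* `two_eq` : the elements of order two of `Aut F`, `F` finite;
* `cmp` : the orders of two groups of Lie type in characteristic two.
-/

set_option autoImplicit false
set_option linter.unusedSectionVars false

namespace Cfsg.Agent.H292.FourBase

open Subgroup Cfsg Cfsg.Agent.OrdDiv Cfsg.Agent.H902 Cfsg.Agent.H902.Names
open Cfsg.Agent.H292.Out Cfsg.Agent.H292.Rows

universe u v w

/-- `z` has a component isomorphic to `A` -/
def CompA {X : Type u} [Group X] (z : MulAut X) (A : Type v) [Group A] : Prop :=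
  ∃ B : Subgroup ↥(fixedSubgroup z), IsComponent B ∧ Nonempty (↥B ≃* A)

/-- a four-group of automorphisms, the same component for all involutions -/
structure Tri {X : Type u} [Group X] (A : Type v) [Group A] (x y : MulAut X) : Prop where
  xx : x * x = 1
  yy : y * y = 1
  xy : x * y = y * x
  x1 : x ≠ 1
  y1 : y ≠ 1
  ne : x ≠ y
  cx : CompA x A
  cy : CompA y A
  cz : CompA (x * y) A

/-- there are no such four-groups -/
def Bad (X : Type u) [Group X] : Prop := ∀ (A : Type v) [Group A] (x y : MulAut X), ¬ Tri A x y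

section

variable {X : Type u} [Group X] {A : Type v} [Group A] {x y : MulAut X}

theorem Tri.swap (h : Tri A x y) : Tri A y x :=
  ⟨h.yy, h.xx, h.xy.symm, h.y1, h.x1, h.ne.symm, h.cy, h.cx, by rw [← h.xy]; exact h.cz⟩

theorem Tri.zz (h : Tri A x y) : (x * y) * (x * y) = 1 := by
  calc (x * y) * (x * y) = x * (y * x) * y := by group
    _ = (x * x) * (y * y) := by rw [← h.xy]; group
    _ = 1 := by rw [h.xx, h.yy, one_mul]

theorem Tri.z1 (h : Tri A x y) : x * y ≠ 1 := by
  intro h1
  apply h.ne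
  calc x = x * (y * y) := by rw [h.yy, mul_one]
    _ = (x * y) * y := by group
    _ = y := by rw [h1, one_mul]

theorem Tri.left (h : Tri A x y) : Tri A (x * y) y := by
  have e : x * y * y = x := by rw [mul_assoc, h.yy, mul_one]
  refine ⟨h.zz, h.yy, ?_, h.z1, h.y1, ?_, h.cz, h.cy, by rw [e]; exact h.cx⟩
  · rw [e, ← mul_assoc, ← h.xy, e]
  · intro h1
    exact h.x1 (mul_eq_right.1 h1)

theorem CompA.congr {X' : Type w} [Group X'] (e : X ≃* X') {z : MulAut X} (h : CompA z A) :
    CompA (MulAut.congr e z) A := by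
  obtain ⟨B, hB, ⟨f⟩⟩ := h
  have c := CpAut.fixEquiv e z
  exact ⟨B.map c.toMonoidHom, SignalizersComponents.Components.isComponent_map_equiv c hB,
    ⟨(B.equivMapOfInjective c.toMonoidHom c.injective).symm.trans f⟩⟩

theorem Tri.congr {X' : Type w} [Group X'] (e : X ≃* X') (h : Tri A x y) :
    Tri A (MulAut.congr e x) (MulAut.congr e y) := by
  have hi := (MulAut.congr e).injective
  refine ⟨?_, ?_, ?_, fun h1 => h.x1 (hi (by rw [h1, map_one])), fun h1 => h.y1 (hi (by rw [h1, map_one])),
    fun h1 => h.ne (hi h1), h.cx.congr e, h.cy.congr e, ?_⟩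
  · rw [← map_mul, h.xx, map_one]
  · rw [← map_mul, h.yy, map_one]
  · rw [← map_mul, h.xy, map_mul]
  · rw [← map_mul]; exact h.cz.congr e

theorem Tri.conj (φ : MulAut X) (h : Tri A x y) : Tri A (φ * x * φ⁻¹) (φ * y * φ⁻¹) := h.congr φ

/-- the component, up to isomorphism, is simple if one of the involutions has a simple core -/
theorem CompA.of_core {z : MulAut X} {E : Type w} [Group E] [IsSimpleGroup E] (hc : Core z E) (h : CompA z A) :
    Nonempty (A ≃* E) := by
  obtain ⟨B, hB, ⟨f⟩⟩ := h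
  obtain ⟨g⟩ := hc.comp hB
  exact ⟨f.symm.trans g⟩

theorem CompA.no_solvable {z : MulAut X} {E : Type w} [Group E] (hc : Core z E) (hE : Group.IsSolvable E)
    (h : CompA z A) : False := by
  obtain ⟨B, hB, -⟩ := h
  exact no_comp_of_solvable hc hE hB

/-- no involution of the four-group is inner -/
theorem Tri.out [Finite X] [IsSimpleGroup X] (hna : ¬ IsMulCommutative X) (hK : IsChevSimple 2 X)
    (h : Tri A x y) {z : MulAut X} (hz : z = x ∨ z = y ∨ z = x * y) : ¬ ((∃ g, z = MulAut.conj g) ∨ Cen z) := by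
  intro h1
  have h2 : z * z = 1 ∧ z ≠ 1 ∧ CompA z A := by
    rcases hz with rfl | rfl | rfl
    · exact ⟨h.xx, h.x1, h.cx⟩
    · exact ⟨h.yy, h.y1, h.cy⟩
    · exact ⟨h.zz, h.z1, h.cz⟩
  obtain ⟨B, hB, -⟩ := h2.2.2
  exact no_comp hna hK h2.1 h2.2.1 hB h1

end

theorem Bad.congr {X : Type u} {X' : Type w} [Group X] [Group X'] (e : X ≃* X') (h : Bad.{u, v} X) : Bad.{w, v} X' :=
  fun A _ _ _ ht => h A _ _ (ht.congr e.symm)

/-- a four-group contains an inner automorphism -/
theorem bad_of_inner {X : Type u} [Group X] [Finite X] [IsSimpleGroup X] (hna : ¬ IsMulCommutative X)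
    (hK : IsChevSimple 2 X)
    (h : ∀ x y : MulAut X, x * x = 1 → y * y = 1 → x * y = y * x → (∃ g, x = MulAut.conj g) ∨
      (∃ g, y = MulAut.conj g) ∨ (∃ g, x * y = MulAut.conj g)) : Bad X := by
  intro A _ x y ht
  rcases h x y ht.xx ht.yy ht.xy with h1 | h1 | h1
  · exact ht.out hna hK (Or.inl rfl) (Or.inl h1)
  · exact ht.out hna hK (Or.inr (Or.inl rfl)) (Or.inl h1)
  · exact ht.out hna hK (Or.inr (Or.inr rfl)) (Or.inl h1)

theorem mem_four {G : Type u} [Group G] {x y : G} (hx : x * x = 1) (hy : y * y = 1) (hxy : x * y = y * x) {g : G}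
    (hg : g ∈ closure ({x, y} : Set G)) : g = 1 ∨ g = x ∨ g = y ∨ g = x * y := by
  have hx' : x⁻¹ = x := inv_eq_of_mul_eq_one_left hx
  have hy' : y⁻¹ = y := inv_eq_of_mul_eq_one_left hy
  have e1 : x * (x * y) = y := by rw [← mul_assoc, hx, one_mul]
  have e2 : y * (x * y) = x := by rw [hxy, ← mul_assoc, hy, one_mul]
  have e3 : x * y * x = y := by rw [hxy, mul_assoc, hx, mul_one]
  have e4 : x * y * y = x := by rw [mul_assoc, hy, mul_one]
  have e5 : x * y * (x * y) = 1 := by rw [← mul_assoc, e3, hy]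
  induction hg using closure_induction with
  | mem z hz =>
    rcases hz with rfl | hz
    · exact Or.inr (Or.inl rfl)
    · exact Or.inr (Or.inr (Or.inl hz))
  | one => exact Or.inl rfl
  | mul a b _ _ ha hb =>
    rcases ha with rfl | rfl | rfl | rfl <;> rcases hb with rfl | rfl | rfl | rfl <;>
      simp [hx, hy, e1, e2, e3, e4, e5, ← hxy]
  | inv a _ ha =>
    rcases ha with rfl | rfl | rfl | rfl
    · simp
    · simp [hx']
    · simp [hy']
    · simp [hx', hy', ← hxy]

theorem pow_cases {G : Type u} [Group G] {a : G} (ha : a * a = 1) (k : ℤ) : a ^ k = 1 ∨ a ^ k = a := by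
  rcases Int.even_or_odd' k with ⟨m, rfl | rfl⟩
  · left
    rw [zpow_mul, zpow_two, ha, one_zpow]
  · right
    rw [zpow_add, zpow_mul, zpow_two, ha, one_zpow, one_mul, zpow_one]

theorem isPGroup_four {G : Type u} [Group G] {x y : G} (hx : x * x = 1) (hy : y * y = 1) (hxy : x * y = y * x) :
    IsPGroup 2 ↥(closure ({x, y} : Set G)) := by
  rintro ⟨g, hg⟩
  refine ⟨1, Subtype.ext ?_⟩
  change g ^ 2 ^ 1 = 1
  rw [pow_one, pow_two]
  rcases mem_four hx hy hxy hg with rfl | rfl | rfl | rfl
  · rw [one_mul]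
  · exact hx
  · exact hy
  · calc (x * y) * (x * y) = x * (y * x) * y := by group
      _ = (x * x) * (y * y) := by rw [← hxy]; group
      _ = 1 := by rw [hx, hy, one_mul]

/-- groups with a cyclic outer automorphism group, `2`-part -/
theorem bad_of_cyc {X : Type u} [Group X] [Finite X] [IsSimpleGroup X] (hna : ¬ IsMulCommutative X)
    (hK : IsChevSimple 2 X) (h : OddHalf.D7Out.TwChoice.CycOut X) : Bad X := by
  refine bad_of_inner hna hK fun x y hx hy hxy => ?_
  have h4 := fun g => mem_four hx hy hxy (g := g)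
  have hP := isPGroup_four hx hy hxy
  obtain ⟨α, hα, hall⟩ := h _ hP
  have hα2 : α * α = 1 := by
    rcases h4 α hα with rfl | rfl | rfl | rfl
    · rw [one_mul]
    · exact hx
    · exact hy
    · calc (x * y) * (x * y) = x * (y * x) * y := by group
        _ = (x * x) * (y * y) := by rw [← hxy]; group
        _ = 1 := by rw [hx, hy, one_mul]
  have key : ∀ β ∈ closure ({x, y} : Set (MulAut X)), (∃ g, β = MulAut.conj g) ∨ ∃ g, α * β = MulAut.conj g := by
    intro β hβ
    obtain ⟨i, k, hk⟩ := hall β hβ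
    rcases pow_cases hα2 i with h1 | h1
    · left
      exact ⟨k, by rw [hk, h1, one_mul]⟩
    · right
      exact ⟨k, by rw [hk, h1, ← mul_assoc, hα2, one_mul]⟩
  have hxm : x ∈ closure ({x, y} : Set (MulAut X)) := subset_closure (by simp)
  have hym : y ∈ closure ({x, y} : Set (MulAut X)) := subset_closure (by simp)
  rcases h4 α hα with rfl | rfl | rfl | rfl
  · rcases key x hxm with h1 | h1
    · exact Or.inl h1
    · rw [one_mul] at h1
      exact Or.inl h1
  · rcases key y hym with h1 | h1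
    · exact Or.inr (Or.inl h1)
    · exact Or.inr (Or.inr h1)
  · rcases key x hxm with h1 | h1
    · exact Or.inl h1
    · rw [← hxy] at h1
      exact Or.inr (Or.inr h1)
  · rcases key x hxm with h1 | h1
    · exact Or.inl h1
    · right; left
      obtain ⟨g, hg⟩ := h1
      refine ⟨g, ?_⟩
      rw [← hg, hxy, mul_assoc, hx, mul_one]

theorem cyc_of_cycOut {X : Type u} [Group X] (h : H523.CycOut X) : OddHalf.D7Out.TwChoice.CycOut X := by
  have := Schreier.Basic.conj_range_normal X
  obtain ⟨γ, hγ⟩ := h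
  refine OddHalf.D7Out.TwChoice.CycOut.of_isCyclic fun A _ => ?_
  have hc : IsCyclic (MulAut X ⧸ (MulAut.conj : X →* MulAut X).range) := by
    refine ⟨⟨QuotientGroup.mk γ, fun a => ?_⟩⟩
    obtain ⟨α, rfl⟩ := QuotientGroup.mk_surjective a
    obtain ⟨g, k, hk⟩ := hγ α
    refine mem_zpowers_iff.2 ⟨k, ?_⟩
    rw [← QuotientGroup.mk_zpow, hk, QuotientGroup.mk_mul]
    have h1 : (QuotientGroup.mk (MulAut.conj g) : MulAut X ⧸ (MulAut.conj : X →* MulAut X).range) = 1 :=
      (QuotientGroup.eq_one_iff _).2 ⟨g, rfl⟩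
    rw [h1, one_mul]
  infer_instance

theorem bad_of_cycOut {X : Type u} [Group X] [Finite X] [IsSimpleGroup X] (hna : ¬ IsMulCommutative X)
    (hK : IsChevSimple 2 X) (h : H523.CycOut X) : Bad X :=
  bad_of_cyc hna hK (cyc_of_cycOut h)

/-- `Aut F` has at most one element of order two -/
theorem two_eq {F : Type u} [Field F] [Finite F] {σ τ : F ≃+* F} (hσ : σ * σ = 1) (hσ1 : σ ≠ 1) (hτ : τ * τ = 1)
    (hτ1 : τ ≠ 1) : σ = τ := by
  have hC : IsCyclic (F ≃+* F) := LieRecognition.FieldSemilinear.isCyclic_ringAut F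
  have hf : Finite (F ≃+* F) := Finite.of_injective (fun f : F ≃+* F => (f : F → F)) DFunLike.coe_injective
  have : Fintype (F ≃+* F) := Fintype.ofFinite _
  classical
  by_contra hne
  have h1 := IsCyclic.card_pow_eq_one_le (α := F ≃+* F) (n := 2) (by norm_num)
  have h2 : ({1, σ, τ} : Finset (F ≃+* F)) ⊆ Finset.univ.filter fun a => a ^ 2 = 1 := by
    intro a ha
    simp only [Finset.mem_insert, Finset.mem_singleton] at ha
    simp only [Finset.mem_filter, Finset.mem_univ, true_and]
    rcases ha with rfl | rfl | rfl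
    · exact one_pow 2
    · rw [pow_two]; exact hσ
    · rw [pow_two]; exact hτ
  have h3 := Finset.card_le_card h2
  rw [Finset.card_eq_three.2 ⟨1, σ, τ, hσ1.symm, hτ1.symm, hne, rfl⟩] at h3
  omega

/-- two orders of groups of Lie type in characteristic two -/
theorem cmp {X Y : Art.Sh} {f g M : ℕ} (hX : Art.Real X 2 f M) (hY : Art.Real Y 2 g M) (hne : X ≠ Y) :
    (X = .L 3 ∨ X = .L 4) ∧ (Y = .L 3 ∨ Y = .L 4) := by
  rcases Art.same_char hX hY with ⟨h, -⟩ | rfl
  · exact absurd h hne
  · obtain ⟨-, h1⟩ := H291.LieTwo.real_20160 hX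
    obtain ⟨-, h2⟩ := H291.LieTwo.real_20160 hY
    constructor
    · rcases h1 with h1 | h1
      · exact Or.inl (Prod.ext_iff.1 h1).1
      · exact Or.inr (Prod.ext_iff.1 h1).1
    · rcases h2 with h2 | h2
      · exact Or.inl (Prod.ext_iff.1 h2).1
      · exact Or.inr (Prod.ext_iff.1 h2).1

end Cfsg.Agent.H292.FourBase
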