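import Mathlib
import Cfsg.Agent.H292.FourBase
import Cfsg.Agent.H292.NamExc
import Cfsg.Agent.H78.TeFour
import Cfsg.Agent.KFacts.RgdFld.Fld

/-!
# `E₆(q)`, `E₇(q)`, `q` even: no four-group of automorphisms with a common component (helper292)

* `exists_phi` : the homomorphism `Aut → Sym(diagram) × Aut K`;
* `bad_E7`, `bad_E6`.
-/

set_option autoImplicit false
set_option linter.unusedSectionVars false

namespace Cfsg.Agent.H292.FourChev

open CoxeterSystem Cfsg.Agent.ChevalleyStructure.CoxeterGeom Cfsg.Agent.Tits.Roots Cfsg.Agent.Tits.Core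
  Cfsg.Agent.Nodes.Reps Cfsg.Agent.Nodes.BNOf Cfsg.Agent.Nodes.Bruhat
  Cfsg.Agent.Nodes.OppDec Cfsg.Agent.Nodes.RGDChev
  Cfsg.Agent.KFacts.RgdAut Cfsg.Agent.KFacts.RgdDiag Cfsg.Agent.KFacts.RgdRigid
  Cfsg.Agent.KFacts.RgdField Cfsg.Agent.KFacts.RgdTau Cfsg.Agent.KFacts.RgdChevCoord
  Cfsg.Agent.CpAut.RgdFix Cfsg.Agent.CpAut.RgdCoh Cfsg.Agent.CpAut.RgdConj Cfsg.Agent.CpAut.RgdSub
open Cfsg Cfsg.Lie Cfsg.Agent Cfsg.Agent.ChevalleyStructure Cfsg.Agent.ChevalleyStructure.Elts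
  Cfsg.Agent.ChevalleyStructure.NPerm Cfsg.Agent.ChevalleyStructure.CoxeterGeomTypes
  Cfsg.Agent.ChevStructure.FieldMap Cfsg.Agent.CpAut.RgdUntw Cfsg.Agent.H829.FieldTwo
open Cfsg.Agent.H292.FourBase Cfsg.Agent.H902 Cfsg.Agent.H902.Names

universe u v

section Phi

variable {D : ChevalleyDatum} {l : ℕ} {M : CoxeterMatrix (Fin l)} (hp : IsType D l M) {K : Type u} [Field K]

include hp in
theorem exists_phi [Finite K] [CharP K 2] [IsSimpleGroup ↥(D.group K)] (hc : ∃ a b : ↥(D.group K), a * b ≠ b * a)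
    (hl : ∀ i j, i ≠ j → M i j = 2 ∨ M i j = 3) :
    ∃ φ : MulAut ↥(D.group K) →* Equiv.Perm (Fin l) × (K ≃+* K), (∀ g, φ (MulAut.conj g) = 1) ∧
      (∀ τ, φ (fld D τ) = (1, τ)) ∧ (∀ β σ, Diag (TT D K) (XX D l K) β σ → (φ β).1 = σ) ∧
      ∀ α i j, M ((φ α).1 i) ((φ α).1 j) = M i j := by
  have : Fact (Nat.Prime 2) := ⟨Nat.prime_two⟩
  have hW := finite_W hp (M.toCoxeterSystem)
  have R := rgd (K := K) hp M.toCoxeterSystem 2
  have hG1 : RGD.Sup (XX D l K) {x | IsRoot M.toCoxeterSystem hp.isCartan x} = ⊤ := G1_eq_top hp M.toCoxeterSystem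
  have hln : Nonempty (Fin l) := by
    rw [← Fin.pos_iff_nonempty]
    rcases Nat.eq_zero_or_pos l with h0 | h0
    · exfalso
      obtain ⟨a, b, hab⟩ := hc
      subst h0
      have h1 : (⊤ : Subgroup ↥(D.group K)) = ⊥ := by
        rw [← hG1, eq_bot_iff]
        refine RGD.Sup_le fun x hx => ?_
        obtain ⟨w, i, -⟩ := hx
        exact i.elim0
      apply hab
      have h2 : ∀ g : ↥(D.group K), g = 1 := fun g => by
        have : g ∈ (⊤ : Subgroup ↥(D.group K)) := Subgroup.mem_top g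
        rwa [h1, Subgroup.mem_bot] at this
      rw [h2 a, h2 b]
    · exact h0
  have hconn := KFacts.RgdLieCharP.conn_of_simple R hG1 (KFacts.RgdLieCharP.center_eq_bot hc)
  have C := coords (K := K) hp M.toCoxeterSystem 2
  have H := coroots (K := K) hp M.toCoxeterSystem 2
  have hA : ∀ σ : Equiv.Perm (Fin l), (∀ i j, M (σ i) (σ j) = M i j) → ∀ i j, cartanOf D l (σ i) (σ j) = cartanOf D l i j :=
    fun σ hσ i j => cartan_of_laced hp.isCartan hl hσ i j
  obtain ⟨φ, hφ⟩ := KFacts.RgdFld.Hom.exists_phi R hG1 C H hconn hA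
  have h1 : ∀ (α : MulAut ↥(D.group K)) (σ : Equiv.Perm (Fin l)) (τ : K ≃+* K),
      Tau (TT D K) (XX D l K) (ch hp) (cartanOf D l) α σ τ → φ α = (σ, τ) := by
    intro α σ τ S
    refine (hφ α).2 1 σ τ ?_
    rw [map_one, one_mul]
    exact S
  refine ⟨φ, fun g => ?_, fun τ => ?_, fun β σ hD => ?_, fun α i j => ?_⟩
  · refine (hφ _).2 g⁻¹ 1 1 ?_
    rw [← map_mul, inv_mul_cancel, map_one]
    exact Tau.one
  · have hstd : ∀ r, IsRoot M.toCoxeterSystem hp.isCartan r → ∀ a, fld D τ (xc hp r a) = xc hp r (τ a) := by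
      intro r hr a
      obtain ⟨s, hs, rfl⟩ := (isRoot_iff hp M.toCoxeterSystem r).1 hr
      exact fld_xc hp τ hs a
    exact h1 _ _ _ (tau_of_std R hG1 C H hconn hstd)
  · obtain ⟨τ, hτ⟩ := exists_tau R C H hconn hD (hA σ (hD.matrix R))
    rw [h1 _ _ _ hτ]
  · obtain ⟨y, hy⟩ := (hφ α).1
    exact hy.diag.matrix R i j

variable {hp} {φ : MulAut ↥(D.group K) →* Equiv.Perm (Fin l) × (K ≃+* K)} {x : MulAut ↥(D.group K)}

theorem phi_field (h2 : ∀ τ, φ (fld D τ) = (1, τ)) (h : FieldType D K x) : (φ x).1 = 1 ∧ (φ x).2 ≠ 1 := by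
  obtain ⟨τ, -, hτ, ⟨e, rfl⟩, -⟩ := h
  rw [map_mul, map_mul, map_inv, h2]
  constructor
  · rw [Prod.fst_mul, Prod.fst_mul, mul_one, Prod.fst_inv, mul_inv_cancel]
  · rw [Prod.snd_mul, Prod.snd_mul, Prod.snd_inv]
    intro h
    apply hτ
    have h3 : (φ e).2 * τ = (φ e).2 := mul_inv_eq_one.1 h
    exact mul_eq_left.1 h3

theorem phi_graph (h1 : ∀ g, φ (MulAut.conj g) = 1)
    (h3 : ∀ β σ, Diag (TT D K) (XX D l K) β σ → (φ β).1 = σ) (h : GraphType hp K x) : (φ x).1 ≠ 1 := by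
  obtain ⟨g, u, β, σ, -, hσ, -, -, hD, -, -, rfl⟩ := h
  rw [map_mul, map_mul, map_mul, map_inv, h1, h1, one_mul, one_mul, inv_one, mul_one, h3 β σ hD]
  exact hσ

end Phi

section Row

variable {D : ChevalleyDatum} {l : ℕ} {M : CoxeterMatrix (Fin l)} (hp : IsType D l M) {K : Type} [Field K]

theorem chev_of {X : Type*} [Group X] (h : IsExceptionalChevChar 2 X) : IsChevSimple 2 X := by
  unfold IsChevSimple IsLieTypeChar
  tauto

include hp in
/-- without graph automorphisms -/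
theorem bad_of_rigid [Fintype K] [CharP K 2] [IsSimpleGroup ↥(D.group K)] (hna : ¬ IsMulCommutative ↥(D.group K))
    (hK : IsChevSimple 2 ↥(D.group K)) (hl : ∀ i j, i ≠ j → M i j = 2 ∨ M i j = 3)
    (hr : ∀ σ : Equiv.Perm (Fin l), (∀ i j, M (σ i) (σ j) = M i j) → σ = 1) : Bad ↥(D.group K) := by
  obtain ⟨φ, h1, h2, h3, h4⟩ := exists_phi hp (K := K) (exists_ab hna) hl
  refine bad_of_inner hna hK fun x y hx hy hxy => ?_
  have key : ∀ z : MulAut ↥(D.group K), z * z = 1 → (φ z).2 = 1 → ∃ g, z = MulAut.conj g := by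
    intro z hz hz2
    rcases untw hp (exists_ab hna) (x := z) (by rw [pow_two, hz]) with h | h | ⟨g, u, β, σ, -, hσ1, -, hσ, -⟩
    · exact h
    · exact absurd hz2 (phi_field h2 h).2
    · exact absurd (hr σ hσ) hσ1
  have hsq : ∀ z : MulAut ↥(D.group K), z * z = 1 → (φ z).2 * (φ z).2 = 1 := by
    intro z hz
    rw [← Prod.snd_mul, ← map_mul, hz, map_one, Prod.snd_one]
  by_cases hx1 : (φ x).2 = 1
  · exact Or.inl (key x hx hx1)
  by_cases hy1 : (φ y).2 = 1
  · exact Or.inr (Or.inl (key y hy hy1))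
  right; right
  have h5 := two_eq (hsq x hx) hx1 (hsq y hy) hy1
  refine key _ ?_ ?_
  · calc (x * y) * (x * y) = x * (y * x) * y := by group
      _ = (x * x) * (y * y) := by rw [← hxy]; group
      _ = 1 := by rw [hx, hy, one_mul]
  · rw [map_mul, Prod.snd_mul, ← h5, hsq x hx]

end Row

section Inst

variable {F : Type} [Field F] [Fintype F] [CharP F 2]

theorem laced_E7 (i j : Fin 7) : i ≠ j → CoxeterMatrix.E₇ i j = 2 ∨ CoxeterMatrix.E₇ i j = 3 := by
  fin_cases i <;> fin_cases j <;> decide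

theorem laced_E6 (i j : Fin 6) : i ≠ j → CoxeterMatrix.E₆ i j = 2 ∨ CoxeterMatrix.E₆ i j = 3 := by
  fin_cases i <;> fin_cases j <;> decide

/-- **`E₇(q)`, `q` even** -/
theorem bad_E7 : Bad ↥(chevE7.group F) := by
  obtain ⟨hs, hna⟩ := Cfsg.Agent.S1054.result (F := F) chevE7 (by simp)
  exact bad_of_rigid isType_E7 hna (chev_of ⟨F, inferInstance, inferInstance, inferInstance,
    Or.inr (Or.inr (Or.inr (Or.inl ⟨MulEquiv.refl _⟩)))⟩) laced_E7 sym_E7

/-- the nontrivial symmetry of the diagram `E₆` -/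
def flip : Equiv.Perm (Fin 6) := Equiv.swap 0 5 * Equiv.swap 2 4

theorem sym_E6 (σ : Equiv.Perm (Fin 6)) (hσ : ∀ i j, CoxeterMatrix.E₆ (σ i) (σ j) = CoxeterMatrix.E₆ i j) :
    σ = 1 ∨ σ = flip := by
  have h1 : ∀ i, (![1, 1, 2, 3, 2, 1] : Fin 6 → ℕ) (σ i) = (![1, 1, 2, 3, 2, 1] : Fin 6 → ℕ) i :=
    inv_step hσ (g := fun _ => 1) (fun _ => rfl) (by decide)
  have h2 : ∀ i, (![2, 3, 4, 5, 4, 2] : Fin 6 → ℕ) (σ i) = (![2, 3, 4, 5, 4, 2] : Fin 6 → ℕ) i :=
    inv_step hσ h1 (by decide)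
  have c : ∀ i j : Fin 6, (![2, 3, 4, 5, 4, 2] : Fin 6 → ℕ) j = (![2, 3, 4, 5, 4, 2] : Fin 6 → ℕ) i →
      j = i ∨ j = flip i := by decide
  have hc : ∀ i, σ i = i ∨ σ i = flip i := fun i => c i _ (h2 i)
  have a1 : σ 1 = 1 := by
    rcases hc 1 with h | h
    · exact h
    · exact h.trans (by decide)
  have a3 : σ 3 = 3 := by
    rcases hc 3 with h | h
    · exact h
    · exact h.trans (by decide)
  have f0 : flip 0 = 5 := by decide
  have f2 : flip 2 = 4 := by decide
  have f4 : flip 4 = 2 := by decide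
  have f5 : flip 5 = 0 := by decide
  have e02 := hσ 0 2
  rcases hc 0 with h | h
  · left
    have a2 : σ 2 = 2 := by
      rcases hc 2 with h' | h'
      · exact h'
      · exfalso
        rw [h, h', f2] at e02
        revert e02
        decide
    have a4 : σ 4 = 4 := by
      rcases hc 4 with h' | h'
      · exact h'
      · exfalso
        rw [f4] at h'
        exact absurd (σ.injective (h'.trans a2.symm)) (by decide)
    have a5 : σ 5 = 5 := by
      rcases hc 5 with h' | h'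
      · exact h'
      · exfalso
        rw [f5] at h'
        exact absurd (σ.injective (h'.trans h.symm)) (by decide)
    ext i
    fin_cases i <;> simp [h, a1, a2, a3, a4, a5]
  · right
    rw [f0] at h
    have a2 : σ 2 = 4 := by
      rcases hc 2 with h' | h'
      · exfalso
        rw [h, h'] at e02
        revert e02
        decide
      · rw [h', f2]
    have a4 : σ 4 = 2 := by
      rcases hc 4 with h' | h'
      · exfalso
        exact absurd (σ.injective (h'.trans a2.symm)) (by decide)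
      · rw [h', f4]
    have a5 : σ 5 = 0 := by
      rcases hc 5 with h' | h'
      · exfalso
        exact absurd (σ.injective (h'.trans h.symm)) (by decide)
      · rw [h', f5]
    have f1 : flip 1 = 1 := by decide
    have f3 : flip 3 = 3 := by decide
    ext i
    fin_cases i
    · change ((σ 0 : Fin 6) : ℕ) = (flip 0 : Fin 6); rw [h, f0]
    · change ((σ 1 : Fin 6) : ℕ) = (flip 1 : Fin 6); rw [a1, f1]
    · change ((σ 2 : Fin 6) : ℕ) = (flip 2 : Fin 6); rw [a2, f2]
    · change ((σ 3 : Fin 6) : ℕ) = (flip 3 : Fin 6); rw [a3, f3]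
    · change ((σ 4 : Fin 6) : ℕ) = (flip 4 : Fin 6); rw [a4, f4]
    · change ((σ 5 : Fin 6) : ℕ) = (flip 5 : Fin 6); rw [a5, f5]

theorem flip_sq : flip * flip = 1 := by decide

/-- the field type and the graph types do not meet -/
theorem no_pair {x y : MulAut ↥(chevE6.group F)} {A : Type v} [Group A] (hy2 : y ^ 2 = 1)
    (hx : FieldType chevE6 F x) (hy : GraphType isType_E6 F y) (cx : CompA x A) (cy : CompA y A) : False := by
  obtain ⟨F₀, i1, i2, i3, hc, ho⟩ := H829.ExcComp.field_pair hx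
  obtain ⟨hs', hna'⟩ := Cfsg.Agent.S1054.result (F := F₀) chevE6 (by simp)
  obtain ⟨B, hB, ⟨e⟩⟩ := cx
  obtain ⟨B', hB', ⟨e'⟩⟩ := cy
  have b : ↥B ≃* ↥(chevE6.group F₀) := (ho.comp hB).some
  have hn := NamExc.n_e6 F₀ b
  rw [Nat.card_congr e.toEquiv] at hn
  have hreal : ∃ f, Art.Real .E6 2 f (Nat.card A) := by
    rcases hn with ⟨n, h, -⟩ | ⟨X, p, f, hg, hr⟩
    · cases h
    · obtain ⟨f', hf', hF'⟩ := H292.Rows.card_two F₀
      generalize hq : Fintype.card F₀ = q at hg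
      cases hg with
      | e6 _ _ =>
        have hp2 : p = 2 := by
          have h1 : 2 ∣ p ^ f := by rw [← hq, hF']; exact dvd_pow_self 2 (by omega)
          exact ((Nat.prime_dvd_prime_iff_eq Nat.prime_two hr.hp).1 (Nat.prime_two.dvd_of_dvd_pow h1)).symm
        subst hp2
        exact ⟨f, hr⟩
  obtain ⟨f, hr⟩ := hreal
  obtain ⟨F', j1, j2, j3, -, h⟩ := H78.TeFour.graphIn.e6 F y hy2 hy B' hB'
  rcases h with ⟨q₀, h, ⟨b'⟩⟩ | ⟨⟨b'⟩⟩
  · have hn' := NamExc.n_te6 F' h b'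
    rw [Nat.card_congr e'.toEquiv] at hn'
    rcases hn' with ⟨n, h', -⟩ | ⟨X, p, f', hg, hr'⟩
    · cases h'
    · cases hg with
      | te6 _ _ =>
        have hp2 : p = 2 := by
          obtain ⟨f'', hf'', hF''⟩ := H292.Rows.card_two F'
          have h1 : p ∣ 2 ^ f'' := by
            rw [← hF'', h]
            exact (dvd_pow_self p (by have := hr'.hf; omega)).trans (dvd_pow_self _ two_ne_zero)
          exact (Nat.prime_dvd_prime_iff_eq hr'.hp Nat.prime_two).1 (hr'.hp.dvd_of_dvd_pow h1)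
        subst hp2
        rcases (cmp hr hr' (by intro h; cases h)).1 with h | h <;> cases h
  · have hn' := NamExc.n_f4 F' b'
    rw [Nat.card_congr e'.toEquiv] at hn'
    rcases hn' with ⟨n, h', -⟩ | ⟨X, p, f', hg, hr'⟩
    · cases h'
    · obtain ⟨f'', hf'', hF''⟩ := H292.Rows.card_two F'
      generalize hq : Fintype.card F' = q at hg
      cases hg with
      | f4 _ _ =>
        have hp2 : p = 2 := by
          have h1 : 2 ∣ p ^ f' := by rw [← hq, hF'']; exact dvd_pow_self 2 (by omega)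
          exact ((Nat.prime_dvd_prime_iff_eq Nat.prime_two hr'.hp).1 (Nat.prime_two.dvd_of_dvd_pow h1)).symm
        subst hp2
        rcases (cmp hr hr' (by intro h; cases h)).1 with h | h <;> cases h

/-- **`E₆(q)`, `q` even** -/
theorem bad_E6 : Bad ↥(chevE6.group F) := by
  obtain ⟨hs, hna⟩ := Cfsg.Agent.S1054.result (F := F) chevE6 (by simp)
  have hK : IsChevSimple 2 ↥(chevE6.group F) := chev_of ⟨F, inferInstance, inferInstance, inferInstance,
    Or.inr (Or.inr (Or.inl ⟨MulEquiv.refl _⟩))⟩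
  obtain ⟨φ, h1, h2, h3, h4⟩ := exists_phi isType_E6 (K := F) (exists_ab hna) laced_E6
  intro A _ x y ht
  -- the type of the elements
  have typ : ∀ {x y : MulAut ↥(chevE6.group F)}, Tri A x y → FieldType chevE6 F x ∨ GraphType isType_E6 F x := by
    intro x y ht
    rcases field_E6 (x := x) (by rw [pow_two, ht.xx]) with h | h
    · exact absurd (Or.inl h) (ht.out hna hK (Or.inl rfl))
    · exact h
  have hsq : ∀ z : MulAut ↥(chevE6.group F), z * z = 1 → (φ z).2 * (φ z).2 = 1 := by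
    intro z hz
    rw [← Prod.snd_mul, ← map_mul, hz, map_one, Prod.snd_one]
  have fg : ∀ {x y : MulAut ↥(chevE6.group F)}, Tri A x y → FieldType chevE6 F x → GraphType isType_E6 F y → False :=
    fun ht hx hy => no_pair (by rw [pow_two, ht.yy]) hx hy ht.cx ht.cy
  have ff : ∀ {x y : MulAut ↥(chevE6.group F)}, Tri A x y → FieldType chevE6 F x → FieldType chevE6 F y → False := by
    intro x y ht hx hy
    obtain ⟨a1, a2⟩ := phi_field h2 hx
    obtain ⟨b1, b2⟩ := phi_field h2 hy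
    have h5 := two_eq (hsq x ht.xx) a2 (hsq y ht.yy) b2
    rcases typ ht.left with h | h
    · apply (phi_field h2 h).2
      rw [map_mul, Prod.snd_mul, ← h5, hsq x ht.xx]
    · apply phi_graph h1 h3 h
      rw [map_mul, Prod.fst_mul, a1, b1, one_mul]
  have gg : ∀ {x y : MulAut ↥(chevE6.group F)}, Tri A x y → GraphType isType_E6 F x → GraphType isType_E6 F y →
      False := by
    intro x y ht hx hy
    have a1 := phi_graph h1 h3 hx
    have b1 := phi_graph h1 h3 hy
    rcases typ ht.left with h | h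
    · exact fg ht.left h hy
    · apply phi_graph h1 h3 h
      rw [map_mul, Prod.fst_mul, (sym_E6 _ (h4 x)).resolve_left a1, (sym_E6 _ (h4 y)).resolve_left b1, flip_sq]
  rcases typ ht with h | h <;> rcases typ ht.swap with h' | h'
  · exact ff ht h h'
  · exact fg ht h h'
  · exact fg ht.swap h' h
  · exact gg ht h h'

end Inst

end Cfsg.Agent.H292.FourChev
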