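import Mathlib
import Cfsg.Agent.H292.FourBase
import Cfsg.Agent.H292.OrthTwo

/-!
# `PΩ⁺_2m(q)`, `q` even: no four-group of automorphisms with a common component (helper292)
-/

set_option autoImplicit false
set_option linter.unusedSectionVars false

namespace Cfsg.Agent.H292.FourOrth

open Module Matrix QuadraticMap
open Cfsg (isometryGroup Omega POmega PSp fixedSubgroup IsChevSimple IsLieTypeChar IsPOmegaPlusChar)
open Cfsg.Agent
open Cfsg.Agent.ClassicalGeometry.OrthCharTwo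
open Cfsg.Agent.ClassicalGeometry.OrthDickson
open Cfsg.Agent.ClassicalGeometry.Reflection
open Cfsg.Agent.ClassicalGeometry.OrthSemi
open Cfsg.Agent.LieClassical.OrthTrans
open Cfsg.Agent.LieClassical.OrthCore (Nondeg)
open Cfsg.Agent.H198.OrthFrame
open Cfsg.Agent.H80 Cfsg.Agent.H292.OrthVec Cfsg.Agent.H292.Out Cfsg.Agent.H292.OrthTwo
open Cfsg.Agent.H966.Frob Cfsg.Agent.H208.Frame Cfsg.Agent.H208.Parity Cfsg.Agent.H208.FramePar
open Cfsg.Agent.ClassicalGeometry.OrthAut1 Cfsg.Agent.LieClassical.QuadForms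
open Cfsg.Agent.H198.Carriers
open Cfsg.Agent.OrdDiv Cfsg.Agent.H902 Cfsg.Agent.H902.Names Cfsg.Agent.H292.Rows Cfsg.Agent.H292.FourBase

universe u v

section Types

variable {ι : Type} [Fintype ι] [DecidableEq ι] {F : Type u} [Field F] {Q : QuadraticForm F (ι → F)} (hG : Good Q)
  {x y : MulAut (POmega F ⇑Q)} {σ τ : F ≃+* F}

/-- induced by a semisimilitude with field automorphism `σ` -/
def Typ (x : MulAut (POmega F ⇑Q)) (σ : F ≃+* F) : Prop :=
  ∃ (M : Gam Q) (c : F), IsSS Q σ c M.1 ∧ Phi hG M = x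

variable {hG}

theorem exists_typ (h : x ∈ (Phi hG).range) : ∃ σ, Typ hG x σ := by
  obtain ⟨M, rfl⟩ := h
  obtain ⟨σ, c, hM⟩ := M.2
  exact ⟨σ, M, c, hM, rfl⟩

theorem Typ.mul (h : Typ hG x σ) (h' : Typ hG y τ) : Typ hG (x * y) (σ * τ) := by
  obtain ⟨M, c, hM, rfl⟩ := h
  obtain ⟨N, d, hN, rfl⟩ := h'
  exact ⟨M * N, c * σ d, hM.mul hN, map_mul _ _ _⟩

theorem SI_mul (t s : isometryGroup F ⇑Q) : SI hG (t * s) = SI hG t * SI hG s := by
  unfold SI
  rw [← map_mul]
  rfl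

variable [Finite F] (h2 : (2 : F) = 0)

include h2

/-- linear type: isometries of square one -/
theorem typ_one (hx : x * x = 1) (h : Typ hG x 1) : ∃ t : isometryGroup F ⇑Q, t * t = 1 ∧ SI hG t = x := by
  have := nonempty hG
  obtain ⟨M, c, hM, rfl⟩ := h
  obtain ⟨g, hg, hp, -⟩ := exists_perm hM
  have h3 : M = simGam Q ⟨g, hp⟩ := Subtype.ext hg
  rw [h3] at hx ⊢
  obtain ⟨g, hgg⟩ : ∃ g' : Sim Q, g' = ⟨g, hp⟩ := ⟨_, rfl⟩
  rw [← hgg] at hx ⊢
  change S hG g * S hG g = 1 at hx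
  rw [← map_mul, S_eq_one_iff] at hx
  obtain ⟨b, hb⟩ := hx
  obtain ⟨d, hd⟩ := exists_sq_two h2 ((b : F)⁻¹)
  have hd0 : d ≠ 0 := by
    rintro rfl
    rw [mul_zero] at hd
    exact b.ne_zero (inv_eq_zero.1 hd.symm)
  obtain ⟨g', hg'⟩ : ∃ g', g' = H185.OrthCent.scSim Q (Units.mk0 d hd0) * g := ⟨_, rfl⟩
  have hS : S hG g' = S hG g := by rw [hg', map_mul, H185.OrthCent.S_scSim, one_mul]
  have hm : ((g' : GL ι F) : Matrix ι ι F) = d • ((g : GL ι F) : Matrix ι ι F) := by
    rw [hg']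
    change ((H185.OrthCent.scSim Q (Units.mk0 d hd0) : Sim Q) : GL ι F).1 * ((g : GL ι F) : Matrix ι ι F) = _
    rw [H185.OrthCent.coe_scSim, H202.Descent.coe_scg, Matrix.smul_mul, Matrix.one_mul]
    rfl
  have hsq : (g' : GL ι F) * (g' : GL ι F) = 1 := by
    apply Units.ext
    rw [Units.val_mul, hm, Matrix.smul_mul, Matrix.mul_smul, smul_smul, hd]
    have h3 : ((g : GL ι F) : Matrix ι ι F) * ((g : GL ι F) : Matrix ι ι F) = (b : F) • 1 := hb
    rw [h3, smul_smul, inv_mul_cancel₀ b.ne_zero, one_smul]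
    rfl
  have hmu : H198.ClassesPlus.mu hG g' = 1 := by
    have h3 : H198.ClassesPlus.mu hG g' * H198.ClassesPlus.mu hG g' = 1 := by
      rw [← map_mul, show g' * g' = 1 from Subtype.ext hsq, map_one]
    apply Units.ext
    apply sq_inj h2
    have h4 := congrArg Units.val h3
    rw [Units.val_mul, Units.val_one] at h4
    rw [Units.val_one, _root_.sq, h4, one_pow]
  have hiso := (H198.ClassesPlus.mu_eq_one_iff hG g').1 hmu
  refine ⟨⟨g', hiso⟩, Subtype.ext hsq, ?_⟩
  change S hG g' = S hG g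
  exact hS

theorem inner_of_mem {t : isometryGroup F ⇑Q} (h : t ∈ Omega F ⇑Q) : ∃ y, SI hG t = MulAut.conj y :=
  ⟨QuotientGroup.mk ⟨t, h⟩, S_omSim hG ⟨t, h⟩⟩

/-- two isometries outside of `Ω` -/
theorem inner_mul {t s : isometryGroup F ⇑Q} (ht : ¬ ∃ y, SI hG t = MulAut.conj y)
    (hs : ¬ ∃ y, SI hG s = MulAut.conj y) : ∃ y, SI hG t * SI hG s = MulAut.conj y := by
  have := nonempty hG
  have hcard : Fintype.card ι ≠ 4 := by have := card_ge hG; omega
  have hQ := polar_nondeg hG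
  have ht' : t ∉ Omega F ⇑Q := fun h => ht (inner_of_mem h2 h)
  have hs' : s ∉ Omega F ⇑Q := fun h => hs (inner_of_mem h2 h)
  rw [← SI_mul]
  refine inner_of_mem h2 ?_
  exact (Subgroup.mul_mem_iff_of_index_two (index_commutator_two Q h2 hQ (Or.inr hcard))).2
    ⟨fun h => absurd h ht', fun h => absurd h hs'⟩

theorem typ_ne {m : ℕ} (hm : 4 ≤ m) (hn : Fintype.card ι = 2 * m) (hx : x * x = 1) (h : Typ hG x σ) (hσ : σ ≠ 1) :
    σ * σ = 1 ∧ ∃ (F₀ : Type u) (_ : Field F₀) (_ : Finite F₀), Nat.card F = Nat.card F₀ ^ 2 ∧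
      (Core x (POmega F₀ (Cfsg.quadFormPlus m F₀)) ∨
        ∃ a b : F₀, (∀ z₁ z₂ : F₀, z₁ ^ 2 + a * z₁ * z₂ + b * z₂ ^ 2 = 0 → z₁ = 0 ∧ z₂ = 0) ∧
          Core x (POmega F₀ (Cfsg.quadFormMinus (m - 1) F₀ a b))) := by
  have := nonempty hG
  have hV : finrank F (ι → F) = 2 * m := by rw [finrank_fintype_fun_eq_card, hn]
  obtain ⟨M, c, hM, rfl⟩ := h
  have hP : Psi Q M ^ 2 = 1 := by
    have h4 : MulAut.congr (AutOrth.Main.pe hG).symm (Psi Q M) * MulAut.congr (AutOrth.Main.pe hG).symm (Psi Q M)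
      = 1 := hx
    rw [← map_mul] at h4
    have h5 := (MulAut.congr (AutOrth.Main.pe hG).symm).injective (h4.trans (map_one _).symm)
    rw [_root_.sq, h5]
  obtain ⟨ho, h⟩ := PomSemi.core_main hG hV hm hM hσ Nat.prime_two hP
  refine ⟨by rw [← _root_.sq, ← ho, pow_orderOf_eq_one], ↥(fix σ), inferInstance, inferInstance,
    PomSemi.card_fix Nat.prime_two ho, ?_⟩
  have key : ∀ {E : Type u} [Group E], Core (Psi Q M) E → Core (Phi hG M) E := by
    intro E _ h
    refine PomSemi.core_transport (AutOrth.Main.pe hG).symm (fun k => ?_) h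
    rw [Phi_apply, MulEquiv.apply_symm_apply]
  rcases h with h | ⟨a', b', hab, h⟩
  · exact Or.inl (key h)
  · exact Or.inr ⟨a', b', hab, key h⟩

end Types

/-- a four-group is conjugate into a subgroup of index three -/
theorem exists_conj_two {G : Type u} [Group G] [Finite G] {H : Subgroup G} (hH : H.index = 3) {x y : G} (hx : x * x = 1)
    (hy : y * y = 1) (hxy : x * y = y * x) : ∃ g : G, g⁻¹ * x * g ∈ H ∧ g⁻¹ * y * g ∈ H := by
  have : Fact (Nat.Prime 2) := ⟨Nat.prime_two⟩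
  have hP := isPGroup_four hx hy hxy
  have hfin : Finite (G ⧸ H) := inferInstance
  obtain ⟨q, hq⟩ := hP.nonempty_fixed_point_of_prime_not_dvd_card (G ⧸ H) (by
    have : Nat.card (G ⧸ H) = 3 := hH
    rw [this]; norm_num)
  obtain ⟨g, rfl⟩ := QuotientGroup.mk_surjective q
  have key : ∀ z ∈ Subgroup.closure ({x, y} : Set G), g⁻¹ * z * g ∈ H := by
    intro z hz
    have h1 : (⟨z, hz⟩ : ↥(Subgroup.closure ({x, y} : Set G))) • (QuotientGroup.mk g : G ⧸ H) =
        QuotientGroup.mk g := hq _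
    have h3 : (QuotientGroup.mk (z * g) : G ⧸ H) = QuotientGroup.mk g := h1
    have h4 := QuotientGroup.eq.1 h3.symm
    rwa [← mul_assoc] at h4
  exact ⟨g, key x (Subgroup.subset_closure (by simp)), key y (Subgroup.subset_closure (by simp))⟩

section Row

variable {F : Type} [Field F] [Fintype F] [CharP F 2]

theorem bad_plusQ {m : ℕ} (hm : 4 ≤ m) : Bad (POmega F ⇑(plusQ m F)) := by
  intro A _ x y ht
  have h2 : (2 : F) = 0 := CharTwo.two_eq_zero
  have hG : Good (plusQ m F) := good_plusQ (by omega)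
  have hn : Fintype.card (Fin m ⊕ Fin m) = 2 * m := by simp; omega
  have hfin : Finite (POmega F ⇑(plusQ m F)) := Finite.of_surjective _ (QuotientGroup.mk'_surjective _)
  have hfinA : Finite (MulAut (POmega F ⇑(plusQ m F))) := Finite.of_injective _ DFunLike.coe_injective
  have hs : IsSimpleGroup (POmega F ⇑(plusQ m F)) := S0296.result m hm
  have hK : IsChevSimple 2 (POmega F ⇑(plusQ m F)) := by
    have : IsPOmegaPlusChar 2 (POmega F ⇑(plusQ m F)) :=
      ⟨F, inferInstance, inferInstance, inferInstance, m, hm, ⟨MulEquiv.refl _⟩⟩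
    unfold IsChevSimple IsLieTypeChar
    tauto
  have hna : ¬ IsMulCommutative (POmega F ⇑(plusQ m F)) := by
    obtain ⟨B, hB, -⟩ := ht.cx
    exact hna_of_comp hB
  -- linear type
  have one : ∀ {x y : MulAut (POmega F ⇑(plusQ m F))}, Tri A x y → Typ hG x 1 →
      ∃ t : isometryGroup F ⇑(plusQ m F), SI hG t = x ∧ (¬ ∃ y, SI hG t = MulAut.conj y) ∧ Core x (PSp (m - 1) F) := by
    intro x y ht h
    obtain ⟨t, htt, rfl⟩ := typ_one h2 ht.xx h
    have hno := ht.out hna hK (Or.inl rfl)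
    refine ⟨t, rfl, fun h1 => hno (Or.inl h1), ?_⟩
    rcases lin h2 hG (n := m - 1) (by omega) htt with h1 | h1 | h1
    · exact absurd (Or.inl h1) hno
    · exact absurd (Or.inr h1) hno
    · exact h1
  have lin2 : ∀ {x y : MulAut (POmega F ⇑(plusQ m F))}, Tri A x y → Typ hG x 1 → Typ hG y 1 → False := by
    intro x y ht h h'
    obtain ⟨t, rfl, h3, -⟩ := one ht h
    obtain ⟨s, rfl, h4, -⟩ := one ht.swap h'
    exact ht.out hna hK (Or.inr (Or.inr rfl)) (Or.inl (inner_mul h2 h3 h4))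
  have mix : ∀ {x y : MulAut (POmega F ⇑(plusQ m F))}, Tri A x y → Typ hG x 1 → ∀ {τ : F ≃+* F},
      Typ hG y τ → τ ≠ 1 → False := by
    intro x y ht h τ h' hτ
    obtain ⟨t, -, -, hcore⟩ := one ht h
    obtain ⟨-, F₀, i1, i2, hc, h5⟩ := typ_ne h2 hm hn ht.yy h' hτ
    have : Fintype F₀ := Fintype.ofFinite F₀
    rw [Nat.card_eq_fintype_card, Nat.card_eq_fintype_card] at hc
    have : CharP F₀ 2 := char_of_card two_ne_zero hc
    have := S0270.result (F := F) (m - 1) (by omega) (fun h => by omega)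
    obtain ⟨e⟩ := ht.cx.of_core hcore
    obtain ⟨f, hf, hF⟩ := card_two F
    have hr1 := psp_real Nat.prime_two hf hF (m := m - 1) (by omega) (fun h => by omega)
    rw [← Nat.card_congr e.toEquiv] at hr1
    obtain ⟨f', hf', hF'⟩ := card_two F₀
    rcases h5 with h5 | ⟨a, b, hab, h5⟩
    · have := S0296.result (F := F₀) m hm
      obtain ⟨e'⟩ := ht.cy.of_core h5
      have hr2 := oplus_real Nat.prime_two hf' hF' hm
      rw [← Nat.card_congr e'.toEquiv] at hr2
      rcases (cmp hr1 hr2 (by intro h; cases h)).1 with h | h <;> cases h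
    · have := S0297.result (F := F₀) m hm a b hab
      obtain ⟨e'⟩ := ht.cy.of_core h5
      have hr2 := ominus_real Nat.prime_two hf' hF' hm hab
      rw [← Nat.card_congr e'.toEquiv] at hr2
      rcases (cmp hr1 hr2 (by intro h; cases h)).1 with h | h <;> cases h
  -- all elements are induced by semisimilitudes
  have main : ∀ {x y : MulAut (POmega F ⇑(plusQ m F))}, Tri A x y → x ∈ (Phi hG).range → y ∈ (Phi hG).range →
      False := by
    intro x y ht hx hy
    obtain ⟨σ, h⟩ := exists_typ hx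
    obtain ⟨τ, h'⟩ := exists_typ hy
    by_cases hσ : σ = 1 <;> by_cases hτ : τ = 1
    · subst hσ hτ
      exact lin2 ht h h'
    · subst hσ
      exact mix ht h h' hτ
    · subst hτ
      exact mix ht.swap h' h hσ
    · obtain ⟨h3, -⟩ := typ_ne h2 hm hn ht.xx h hσ
      obtain ⟨h4, -⟩ := typ_ne h2 hm hn ht.yy h' hτ
      have h5 := two_eq h3 hσ h4 hτ
      have h6 := h.mul h'
      rw [← h5, h3] at h6
      exact mix ht.left h6 h' hτ
  rcases Nat.lt_or_ge m 5 with h | h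
  · obtain rfl : m = 4 := by omega
    obtain ⟨φ, h3, h4⟩ := exists_conj_two (index_four hG) ht.xx ht.yy ht.xy
    have h5 := ht.conj φ⁻¹
    rw [inv_inv] at h5
    exact main h5 h3 h4
  · have h3 : Function.Surjective (Phi hG) := surj_plusQ h
    exact main ht (h3 _) (h3 _)

/-- **`PΩ⁺_2m(q)`, `q` even** -/
theorem bad_plus {m : ℕ} (hm : 4 ≤ m) : Bad (POmega F (Cfsg.quadFormPlus m F)) := bad_plusQ hm

end Row

end Cfsg.Agent.H292.FourOrth
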