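import Mathlib
import Cfsg.Agent.H292.FourBase
import Cfsg.Agent.H292.PspTwo
import Cfsg.Agent.H300.Sp4Three

/-!
# `PSp_2m(q)`, `q` even: no four-group of automorphisms with a common component (helper292)
-/

set_option autoImplicit false
set_option linter.unusedSectionVars false
set_option linter.style.haveILetI false

namespace Cfsg.Agent.H292.FourPsp

open Matrix Cfsg
open Cfsg.Agent.ClassicalGeometry.SympAutSemi Cfsg.Agent.ClassicalGeometry.SympGamma
open Cfsg.Agent.CpAut.Psp Cfsg.Agent.CpAut.Fix Cfsg.Agent.CpAut.SpLang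
open Cfsg.Agent.H292.Out
open Cfsg.Agent.OrdDiv Cfsg.Agent.H902 Cfsg.Agent.H902.Names Cfsg.Agent.H292.Rows Cfsg.Agent.H292.FourBase

universe u v

section Types

variable {F : Type u} [Field F] {m : ℕ} {x y : MulAut (PSp m F)} {σ τ : F ≃+* F}

/-- induced by a semisimilitude -/
def Sem (x : MulAut (PSp m F)) (σ : F ≃+* F) : Prop :=
  ∃ (g : semiSim m F) (l : F), l ≠ 0 ∧ IsSemi g.1 σ l ∧ Psi m F g = x

theorem exists_sem (h : x ∈ (Psi m F).range) : ∃ σ, Sem x σ := by
  obtain ⟨g, rfl⟩ := h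
  obtain ⟨φ, l, hl, hg⟩ := g.2
  exact ⟨φ, g, l, hl, hg, rfl⟩

theorem Sem.mul (h : Sem x σ) (h' : Sem y τ) : Sem (x * y) (σ * τ) := by
  obtain ⟨g, l, hl, hg, rfl⟩ := h
  obtain ⟨g', l', hl', hg', rfl⟩ := h'
  refine ⟨g * g', l * σ l', mul_ne_zero hl ?_, hg.mul hg', map_mul _ _ _⟩
  exact fun h => hl' (σ.injective (by rw [h, map_zero]))

end Types

section Out

variable {F : Type u} [Field F] [Fintype F] [CharP F 2] {m : ℕ} {x : MulAut (PSp m F)} {σ : F ≃+* F}

theorem sem_one (hm : 1 ≤ m) (hx : x ^ 2 = 1) (h : Sem x 1) : ∃ g, x = MulAut.conj g := by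
  have hp : Fact (Nat.Prime 2) := ⟨Nat.prime_two⟩
  obtain ⟨g, l, hl, hg, rfl⟩ := h
  obtain ⟨y, hy⟩ := inner_of_lin hm hl hg hx
  exact ⟨y, hy.symm⟩

theorem sem_ne (hm : 1 ≤ m) (hx : x ^ 2 = 1) (h : Sem x σ) (hσ : σ ≠ 1) : orderOf σ = 2 ∧
    ∃ (F₀ : Type u) (_ : Field F₀) (_ : Fintype F₀), Fintype.card F = Fintype.card F₀ ^ 2 ∧ Core x (PSp m F₀) := by
  obtain ⟨g, l, hl, hg, rfl⟩ := h
  obtain ⟨hord, h, hh⟩ := exists_conj hm Nat.prime_two hl hg hx hσ
  have hfin : Fintype ↥(K0 σ) := Fintype.ofFinite _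
  refine ⟨hord, ↥(K0 σ), inferInstance, hfin, ?_, ?_⟩
  · rw [PspTwo.card_K0 hord, Nat.card_eq_fintype_card]
  · rw [hh]
    exact (core_of_sett (sett hm σ)).conj _

end Out

theorem three_dvd_real {f M : ℕ} (h : Art.Real (.C 2) 2 f M) : 3 ∣ M := by
  have h1 := h.eq
  have h2 : Art.dd (.C 2) (2 ^ f) = 1 := by
    change Nat.gcd 2 (2 ^ f - 1) = 1
    have h3 : ¬ 2 ∣ 2 ^ f - 1 := by
      have h4 : 2 ∣ 2 ^ f := dvd_pow_self 2 (by have := h.hf; omega)
      have h5 : 1 ≤ 2 ^ f := Nat.one_le_two_pow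
      omega
    exact (Nat.prime_two.coprime_iff_not_dvd).2 h3
  rw [h2, one_mul] at h1
  rw [h1]
  apply Dvd.dvd.mul_left
  change 3 ∣ ∏ i ∈ Finset.range 2, ((2 ^ f) ^ (2 * (i + 1)) - 1)
  rw [Finset.prod_range_succ']
  apply Dvd.dvd.mul_left
  have h6 : (2 ^ f) ^ (2 * (0 + 1)) = 4 ^ f := by
    rw [← pow_mul, mul_comm f, pow_mul]
    norm_num
  rw [h6]
  simpa using Nat.sub_dvd_pow_sub_pow 4 1 f

section Row

variable {F : Type} [Field F] [Fintype F] [CharP F 2] {m : ℕ}

theorem bad_psp (hm : 2 ≤ m) (hm2 : m = 2 → 3 ≤ Fintype.card F) : Bad (PSp m F) := by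
  intro A _ x y ht
  have hs : IsSimpleGroup (PSp m F) := S0270.result m hm hm2
  have hfin : Finite (PSp m F) := Finite.of_surjective _ (QuotientGroup.mk'_surjective _)
  have hK : IsChevSimple 2 (PSp m F) := by
    have : IsPSpChar 2 (PSp m F) :=
      ⟨F, inferInstance, inferInstance, inferInstance, m, hm, hm2, ⟨MulEquiv.refl _⟩⟩
    unfold IsChevSimple IsLieTypeChar
    tauto
  have hna : ¬ IsMulCommutative (PSp m F) := by
    obtain ⟨B, hB, -⟩ := ht.cx
    exact hna_of_comp hB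
  have key : ∀ {x y : MulAut (PSp m F)}, Tri A x y → ∀ {σ : F ≃+* F}, Sem x σ → σ ≠ 1 := by
    rintro x y ht σ h rfl
    exact ht.out hna hK (Or.inl rfl) (Or.inl (sem_one (by omega) (by rw [pow_two, ht.xx]) h))
  have lin2 : ∀ {x y : MulAut (PSp m F)}, Tri A x y → x ∈ (Psi m F).range → y ∈ (Psi m F).range → False := by
    intro x y ht hx hy
    obtain ⟨σ, h⟩ := exists_sem hx
    obtain ⟨τ, h'⟩ := exists_sem hy
    have h1 := key ht h
    have h2 := key ht.swap h'
    obtain ⟨h3, -⟩ := sem_ne (by omega) (by rw [pow_two, ht.xx]) h h1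
    obtain ⟨h4, -⟩ := sem_ne (by omega) (by rw [pow_two, ht.yy]) h' h2
    have h3' : σ * σ = 1 := by rw [← pow_two, ← h3, pow_orderOf_eq_one]
    have h4' : τ * τ = 1 := by rw [← pow_two, ← h4, pow_orderOf_eq_one]
    have h5 := two_eq h3' h1 h4' h2
    exact key ht.left (h.mul h') (by rw [← h5, h3'])
  rcases hm.lt_or_eq with hm3 | h2
  · have hall : ∀ z : MulAut (PSp m F), z ∈ (Psi m F).range := fun z =>
      ClassicalGeometry.SympAutExists.exists_semi (by omega) z
        (ClassicalGeometry.SympAutOddA.recog (by omega) (Or.inl hm3) z)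
    exact lin2 ht (hall x) (hall y)
  subst h2
  have hex : ∃ t : F, t ≠ 0 ∧ t ≠ 1 := H829.ExcComp.exists_ne_of_card (hm2 rfl)
  have hidx := ClassicalGeometry.SympAutTwo.index_two hex
    (fun α hα => ClassicalGeometry.SympAutExists.exists_semi le_rfl α hα)
  -- if `x` is induced by a semisimilitude then so is `y`
  have mix : ∀ {x y : MulAut (PSp 2 F)}, Tri A x y → x ∈ (Psi 2 F).range → y ∉ (Psi 2 F).range → False := by
    intro x y ht hx hy
    obtain ⟨σ, h⟩ := exists_sem hx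
    obtain ⟨-, F₀, i1, i2, hc, hcore⟩ := sem_ne (by omega) (by rw [pow_two, ht.xx]) h (key ht h)
    have : CharP F₀ 2 := char_of_card two_ne_zero hc
    -- `3` divides the order of `A`
    have h3 : 3 ∣ Nat.card A := by
      obtain ⟨B, hB, ⟨e⟩⟩ := ht.cx
      rw [← Nat.card_congr e.toEquiv]
      obtain ⟨f, hf, hF⟩ := card_two F₀
      by_cases hF2 : Fintype.card F₀ = 2
      · rcases of_core_psp F₀ (by norm_num) hcore hB with ⟨-, -, h5⟩ | ⟨h5, -⟩ | ⟨-, -, ⟨e'⟩, -⟩
        · exfalso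
          rcases h5 with ⟨n, h5, -⟩ | ⟨X, p, f', hg, hr⟩
          · cases h5
          · generalize hq : Fintype.card F₀ = q at hg
            cases hg with
            | psp _ _ _ =>
              have h6 := hr.ok.2 rfl
              omega
        · omega
        · have h5 := alt_card (n := 6) (by norm_num) e'
          have h6 : Nat.factorial 6 = 720 := rfl
          rw [h6] at h5
          omega
      · have h5 := S0270.result (F := F₀) 2 le_rfl (fun _ => by have := card_ge_four F₀ hF2; omega)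
        obtain ⟨e'⟩ := hcore.comp hB
        rw [Nat.card_congr e'.toEquiv]
        refine three_dvd_real (psp_real Nat.prime_two hf hF le_rfl fun _ => ?_)
        rw [← hF]
        have := card_ge_four F₀ hF2
        omega
    obtain ⟨B, hB, ⟨e⟩⟩ := ht.cy
    rw [← Nat.card_congr e.toEquiv] at h3
    have : Fact (Nat.Prime 3) := ⟨Nat.prime_three⟩
    obtain ⟨a, ha⟩ := exists_prime_orderOf_dvd_card' 3 h3
    have h4 : ((a : ↥(fixedSubgroup y)) : PSp 2 F) ^ 3 = 1 := by
      have h4 : a ^ 3 = 1 := by rw [← ha, pow_orderOf_eq_one]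
      exact congrArg (fun t : ↥B => ((t : ↥(fixedSubgroup y)) : PSp 2 F)) h4
    have h5 := H300.Sp4Three.no_three hex (x := y) hy h4 (a : ↥(fixedSubgroup y)).2
    have h6 : a = 1 := Subtype.ext (Subtype.ext h5)
    rw [h6, orderOf_one] at ha
    omega
  by_cases hx : x ∈ (Psi 2 F).range <;> by_cases hy : y ∈ (Psi 2 F).range
  · exact lin2 ht hx hy
  · exact mix ht hx hy
  · exact mix ht.swap hy hx
  · refine mix ht.left ?_ hy
    rw [Subgroup.mul_mem_iff_of_index_two hidx]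
    exact ⟨fun h => absurd h hx, fun h => absurd h hy⟩

end Row

end Cfsg.Agent.H292.FourPsp
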